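import Groth.Agent.FFLib.Res.Weil
import Groth.Agent.FFLib.SV.AtPlace

/-! The different exponent through expansions. -/

namespace Groth.Agent.FFLib

open FunFld WithZero IntermediateField

universe u v w

variable {k : Type u} {K : Type v} [Field k] [Field K] [Algebra k K]

/-- The derivation with respect to an element with nonzero differential. -/
theorem exists_deriv (hK : IsFunctionField k K) (hg : IsGeometric k K) {v : K}
    (hv : KaehlerDifferential.D k K v ≠ 0) :
    ∃ d : K →+ K, (∀ a b, d (a * b) = a * d b + b * d a) ∧ (∀ c : k, d (algebraMap k K c) = 0) ∧ d v = 1 := by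
  obtain ⟨htr, hsep⟩ := separating_of_D_ne hK hg hv
  obtain ⟨H, hH⟩ := exists_hasse hK htr hsep
  refine ⟨AddMonoidHom.mk' (fun y => PowerSeries.coeff 1 (H y)) (fun a b => by rw [map_add, map_add]),
    fun a b => ?_, fun c => ?_, ?_⟩
  · show PowerSeries.coeff 1 (H (a * b)) = _
    rw [map_mul, PowerSeries.coeff_one_mul, hH.2, hH.2]
    show _ = a * PowerSeries.coeff 1 (H b) + b * PowerSeries.coeff 1 (H a)
    ring
  · show PowerSeries.coeff 1 (H (algebraMap k K c)) = 0
    rw [H.commutes, PowerSeries.algebraMap_apply, PowerSeries.coeff_C, if_neg one_ne_zero]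
  · show PowerSeries.coeff 1 (H v) = 1
    rw [hH.1, map_add, PowerSeries.coeff_C, if_neg one_ne_zero, PowerSeries.coeff_one_X, zero_add]

variable {F : Type w} [Field F] [Algebra k F]

theorem D_ne_of_vDiff {φ : K →ₐ[k] LaurentSeries F} {x : K} (h : LocRes.vDiff φ 1 x ≠ 0) :
    KaehlerDifferential.D k K x ≠ 0 := by
  intro e
  refine h ?_
  let _i := φ.toRingHom.toAlgebra
  have _t : IsScalarTower k K (LaurentSeries F) := LocRes.isScalarTower_exp φ
  have h' := (LocRes.dExp φ).liftKaehlerDifferential_comp_D x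
  rw [e, map_zero] at h'
  have h2 : LocRes.D F (φ x) = 0 := h'.symm
  rw [LocRes.vDiff, h2, mul_zero, map_zero]

theorem vDiff_one (φ : K →ₐ[k] LaurentSeries F) (x : K) :
    LocRes.vDiff φ 1 x = Valued.v (LocRes.D F (φ x)) := by
  rw [LocRes.vDiff, map_one, one_mul]

variable {k' : Type*} {K' : Type*} {F' : Type w} [Field k'] [Field K'] [Field F'] [Algebra k' K'] [Algebra k' F']
  [Algebra K K'] [Algebra k k'] [Algebra k K'] [IsScalarTower k k' K'] [IsScalarTower k K K']

/-- Chain rule below. -/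
theorem D_exp_eq (hK : IsFunctionField k K) (hg : IsGeometric k K) {v : K}
    (hv : KaehlerDifferential.D k K v ≠ 0) (φ : K →ₐ[k] LaurentSeries F) {d : K →+ K}
    (hd : (∀ a b, d (a * b) = a * d b + b * d a) ∧ (∀ c : k, d (algebraMap k K c) = 0) ∧ d v = 1) (y : K) :
    LocRes.D F (φ y) = φ (d y) * LocRes.D F (φ v) := by
  let f : K →+ LaurentSeries F :=
    AddMonoidHom.mk' (fun y => LocRes.D F (φ y) - φ (d y) * LocRes.D F (φ v))
      (fun a b => by simp only [map_add, add_mul]; abel)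
  have := leibniz_eq_zero (k := k) (φ : K →+* LaurentSeries F) f (fun a b => by
      show LocRes.D F (φ (a * b)) - φ (d (a * b)) * _ =
        φ a * (LocRes.D F (φ b) - φ (d b) * _) + φ b * (LocRes.D F (φ a) - φ (d a) * _)
      rw [hd.1, map_add φ, map_mul φ a b, map_mul φ a (d b), map_mul φ b (d a), Derivation.leibniz,
        smul_eq_mul, smul_eq_mul]
      ring) (fun c => by
      show LocRes.D F (φ _) - φ (d _) * _ = 0
      rw [hd.2.1, map_zero, zero_mul, sub_zero]
      exact dExp_const φ c) (separating_of_D_ne hK hg hv).2 (by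
      show LocRes.D F (φ v) - φ (d v) * _ = 0
      rw [hd.2.2, map_one, one_mul, sub_self]) y
  exact sub_eq_zero.mp this

/-- Chain rule above. -/
theorem D_exp_map_eq (hK : IsFunctionField k K) (hg : IsGeometric k K) {v : K}
    (hv : KaehlerDifferential.D k K v ≠ 0) (ψ : K' →ₐ[k'] LaurentSeries F') {d : K →+ K}
    (hd : (∀ a b, d (a * b) = a * d b + b * d a) ∧ (∀ c : k, d (algebraMap k K c) = 0) ∧ d v = 1) (y : K) :
    LocRes.D F' (ψ (algebraMap K K' y)) = ψ (algebraMap K K' (d y)) * LocRes.D F' (ψ (algebraMap K K' v)) := by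
  let g : K →+* LaurentSeries F' := (ψ : K' →+* LaurentSeries F').comp (algebraMap K K')
  let f : K →+ LaurentSeries F' :=
    AddMonoidHom.mk' (fun y => LocRes.D F' (g y) - g (d y) * LocRes.D F' (g v))
      (fun a b => by simp only [map_add, add_mul]; abel)
  have := leibniz_eq_zero (k := k) g f (fun a b => by
      show LocRes.D F' (g (a * b)) - g (d (a * b)) * _ =
        g a * (LocRes.D F' (g b) - g (d b) * _) + g b * (LocRes.D F' (g a) - g (d a) * _)
      rw [hd.1, map_add g, map_mul g a b, map_mul g a (d b), map_mul g b (d a), Derivation.leibniz,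
        smul_eq_mul, smul_eq_mul]
      ring) (fun c => by
      show LocRes.D F' (g _) - g (d _) * _ = 0
      rw [hd.2.1, map_zero, zero_mul, sub_zero]
      show LocRes.D F' (ψ (algebraMap K K' (algebraMap k K c))) = 0
      rw [← IsScalarTower.algebraMap_apply k K K', IsScalarTower.algebraMap_apply k k' K']
      exact dExp_const ψ _) (separating_of_D_ne hK hg hv).2 (by
      show LocRes.D F' (g v) - g (d v) * _ = 0
      rw [hd.2.2, map_one, one_mul, sub_self]) y
  exact sub_eq_zero.mp this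

variable {P : Place k K} {Q : Place k' K'} {e : ℕ}
  (he : ∀ z : K, Q.1 (algebraMap K K' z) = P.1 z ^ e)
  {φ : K →ₐ[k] LaurentSeries F} (hφ : LocRes.IsExpansionAt P.1 φ)
  {ψ : K' →ₐ[k'] LaurentSeries F'} (hψ : LocRes.IsExpansionAt Q.1 ψ)

include he in
omit [Algebra k k'] [Algebra k K'] [IsScalarTower k k' K'] [IsScalarTower k K K'] in
theorem ord_map_over (z : K) : Q.ord (algebraMap K K' z) = (e : ℤ) * P.ord z := by
  rcases eq_or_ne z 0 with rfl | hz
  · simp
  apply ord_of_val_eq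
  rw [he, val_eq_exp P hz, ← exp_nsmul]
  congr 1
  rw [nsmul_eq_mul]
  ring

include hφ hψ he in
/-- The different exponent does not depend on the element used. -/
theorem diffExp_indep (hK : IsFunctionField k K) (hg : IsGeometric k K) {x x' : K}
    (hx : LocRes.vDiff φ 1 x ≠ 0) (hx' : LocRes.vDiff ψ 1 (algebraMap K K' x) ≠ 0)
    (hx2 : LocRes.vDiff φ 1 x' ≠ 0) : LocRes.diffExp φ ψ e x' = LocRes.diffExp φ ψ e x := by
  obtain ⟨d, hd⟩ := exists_deriv hK hg (D_ne_of_vDiff hx)
  have h1 : LocRes.vDiff φ 1 x' = P.1 (d x') * LocRes.vDiff φ 1 x := by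
    rw [vDiff_one, vDiff_one, D_exp_eq hK hg (D_ne_of_vDiff hx) φ hd x', map_mul, hφ.1]
  have h2 : LocRes.vDiff ψ 1 (algebraMap K K' x') =
      Q.1 (algebraMap K K' (d x')) * LocRes.vDiff ψ 1 (algebraMap K K' x) := by
    rw [vDiff_one, vDiff_one, D_exp_map_eq hK hg (D_ne_of_vDiff hx) ψ hd x', map_mul, hψ.1]
  have hd0 : d x' ≠ 0 := fun h => hx2 (by rw [h1, h, map_zero, zero_mul])
  have hQ : Q.1 (algebraMap K K' (d x')) ≠ 0 := val_ne_zero Q (map_ne_zero _ |>.mpr hd0)
  unfold LocRes.diffExp LocRes.ordDiff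
  rw [h1, h2, log_mul (val_ne_zero P hd0) hx, log_mul hQ hx', val_eq_exp P hd0,
    val_eq_exp Q (map_ne_zero _ |>.mpr hd0), log_exp, log_exp, ord_map_over he]
  ring

include hφ in
theorem vDiff_unif {t : K} (ht : P.1 t = exp (-1 : ℤ)) : LocRes.vDiff φ 1 t = 1 := by
  obtain ⟨h1, h2⟩ := coeff_dExp_unif hφ ht
  rw [vDiff_one]
  change (LocRes.D F (φ t)).coeff 0 ≠ 0 at h2
  refine le_antisymm ?_ ?_
  · have h := (low_iff_val _ 0).mp (by simpa using h1.deriv)
    rwa [neg_zero, exp_zero] at h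
  · by_contra hlt
    rw [not_le] at hlt
    refine h2 ((low_iff_val _ 1).mpr ?_ 0 one_pos)
    have h0 : Valued.v (LocRes.D F (φ t)) ≠ 0 := fun e => h2 (by
      rw [(map_eq_zero _).mp e, HahnSeries.coeff_zero])
    rw [← exp_log h0] at hlt ⊢
    rw [← exp_zero, exp_lt_exp] at hlt
    rw [exp_le_exp]
    omega

include hφ hψ he in
/-- Evaluation on a uniformiser below. -/
theorem diffExp_eq_unif (hK : IsFunctionField k K) (hg : IsGeometric k K) {x : K}
    (hx : LocRes.vDiff φ 1 x ≠ 0) (hx' : LocRes.vDiff ψ 1 (algebraMap K K' x) ≠ 0) {t : K}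
    (ht : P.1 t = exp (-1 : ℤ)) :
    LocRes.diffExp φ ψ e x = LocRes.ordDiff ψ 1 (algebraMap K K' t) ∧
      LocRes.vDiff ψ 1 (algebraMap K K' t) ≠ 0 := by
  have h1 := vDiff_unif hφ ht
  have hne : LocRes.vDiff φ 1 t ≠ 0 := by rw [h1]; exact one_ne_zero
  constructor
  · rw [← diffExp_indep he hφ hψ hK hg hx hx' hne]
    unfold LocRes.diffExp
    rw [LocRes.ordDiff, LocRes.ordDiff, h1, log_one]
    ring
  · obtain ⟨d, hd⟩ := exists_deriv hK hg (D_ne_of_vDiff hne)
    intro h0
    refine hx' ?_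
    rw [vDiff_one, D_exp_map_eq hK hg (D_ne_of_vDiff hne) ψ hd x, map_mul, ← vDiff_one, h0, mul_zero]

include hφ hψ he in
/-- Tame and wild ramification. -/
theorem diffExp_ramified (hK : IsFunctionField k K) (hg : IsGeometric k K) {x : K}
    (hx : LocRes.vDiff φ 1 x ≠ 0) (hx' : LocRes.vDiff ψ 1 (algebraMap K K' x) ≠ 0) :
    ((e : F') ≠ 0 → LocRes.diffExp φ ψ e x = (e : ℤ) - 1) ∧
      ((e : F') = 0 → (e : ℤ) ≤ LocRes.diffExp φ ψ e x) := by
  obtain ⟨t, ht⟩ := hφ.2.2
  obtain ⟨h1, h2⟩ := diffExp_eq_unif he hφ hψ hK hg hx hx' ht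
  rw [h1, LocRes.ordDiff]
  rw [vDiff_one] at h2 ⊢
  set z := ψ (algebraMap K K' t) with hz
  have hv : Valued.v z = exp (-(e : ℤ)) := by
    rw [hz, hψ.1, he, ht, ← exp_nsmul, nsmul_eq_mul, mul_neg, mul_one]
  have hlow : Low z e := (low_iff_val _ _).mpr hv.le
  have hc : z.coeff e ≠ 0 := fun h0 => by
    have h' : Valued.v z ≤ exp (-((e : ℤ) + 1)) := (low_iff_val _ _).mp fun i hi => by
      rcases eq_or_lt_of_le (Int.lt_add_one_iff.mp hi) with rfl | hlt
      · exact h0
      · exact hlow i hlt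
    rw [hv, exp_le_exp] at h'
    omega
  have hdlow : Valued.v (LocRes.D F' z) ≤ exp (-((e : ℤ) - 1)) := (low_iff_val _ _).mp hlow.deriv
  have hcoef : (LocRes.D F' z).coeff ((e : ℤ) - 1) = (e : F') * z.coeff e := by
    rw [LocRes.D_coeff, sub_add_cancel, zsmul_eq_mul, Int.cast_natCast]
  constructor
  · intro he0
    have hge : ¬ Valued.v (LocRes.D F' z) ≤ exp (-(e : ℤ)) := fun h => by
      have := (low_iff_val _ _).mpr h ((e : ℤ) - 1) (by omega)
      rw [hcoef] at this
      exact mul_ne_zero he0 hc this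
    rw [← exp_log h2, exp_le_exp] at hge hdlow
    omega
  · intro he0
    have hle : Valued.v (LocRes.D F' z) ≤ exp (-(e : ℤ)) := (low_iff_val _ _).mp fun i hi => by
      rcases eq_or_lt_of_le (show i ≤ (e : ℤ) - 1 by omega) with rfl | hlt
      · rw [hcoef, he0, zero_mul]
      · exact hlow.deriv i hlt
    rw [← exp_log h2, exp_le_exp] at hle
    omega

end Groth.Agent.FFLib
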