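import Groth.Agent.FFLib.Diff.CoordBound
import Groth.Agent.FFLib.Geometric
import Mathlib.Algebra.BigOperators.Field

/-! Nonsingular places and uniform conductors of constant extensions. -/

set_option linter.unusedSectionVars false
set_option linter.style.haveILetI false

namespace Groth.Agent.FFLib

open FunFld WithZero Polynomial
open scoped IntermediateField TensorProduct

universe u v w

variable {k : Type u} {K : Type v} [Field k] [Field K] [Algebra k K]

/-- Coordinates of elements integral over `P` are bounded by `exp C` in all constant extensions. -/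
def IsCoordExp (P : Place k K) (C : ℕ) : Prop :=
  ∀ (k' : Type u) [Field k'] [Algebra k k'] [FiniteDimensional k k'] (K' : Type w) [Field K'] [Algebra K K']
    [Algebra k' K'] [Algebra k K'] [IsScalarTower k k' K'] [IsScalarTower k K K'],
    Function.Bijective (Algebra.TensorProduct.productMap
      (IsScalarTower.toAlgHom k k' K') (IsScalarTower.toAlgHom k K K')) →
    ∀ (n : ℕ) (v : Module.Basis (Fin n) k k') (vK : Module.Basis (Fin n) K K'),
      (∀ l, vK l = algebraMap k' K' (v l)) →
      ∀ z : K', (∀ R : Place k K', IsOver R P → R.1 z ≤ 1) → ∀ l, P.1 (vK.repr z l) ≤ exp (C : ℤ)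

theorem coordExp_of_disc {x : K} (hx : Transcendental k x) [FiniteDimensional k⟮x⟯ K] [Algebra.IsSeparable k⟮x⟯ K]
    (hF0 : IsFF k k⟮x⟯) (P : Place k K) (P0 : Place k k⟮x⟯)
    (hx0 : P0.1 (IntermediateField.AdjoinSimple.gen k x) ≤ 1) (hP : IsOver P P0)
    {ι : Type*} [Fintype ι] [DecidableEq ι] (b : Module.Basis ι k⟮x⟯ K)
    (hb : ∀ i, ∀ Q : Place k K, IsOver Q P0 → Q.1 (b i) ≤ 1) (C : ℕ)
    (hC : P.ord (((Algebra.traceMatrix k⟮x⟯ b).det : k⟮x⟯) : K) ≤ C) : IsCoordExp.{u, v, w} P C := by
  intro k' _ _ _ K' _ _ _ _ _ _ h n v vK hvK z hz l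
  have h1 := coords_le h hx hF0 P P0 hx0 hP b hb v vK hvK z hz l
  have hd : (((Algebra.traceMatrix k⟮x⟯ b).det : k⟮x⟯) : K) ≠ 0 := fun e =>
    Algebra.discr_not_zero_of_basis k⟮x⟯ b (Subtype.ext e)
  rcases eq_or_ne (vK.repr z l) 0 with e | e
  · rw [e, map_zero]; exact zero_le
  rw [val_eq_exp P e, val_eq_exp P hd, ← exp_add] at h1
  have h2 := exp_le_exp.mp (h1.trans_eq exp_zero.symm)
  rw [val_eq_exp P e, exp_le_exp]
  omega

theorem isFF_adjoin {x : K} (hx : Transcendental k x) : IsFF k k⟮x⟯ := by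
  have htop : k⟮IntermediateField.AdjoinSimple.gen k x⟯ = ⊤ := by
    apply IntermediateField.map_injective (k⟮x⟯).val
    rw [IntermediateField.adjoin_map, Set.image_singleton, ← AlgHom.fieldRange_eq_map,
      IntermediateField.fieldRange_val]
    rfl
  refine ⟨IntermediateField.AdjoinSimple.gen k x, fun h => hx (h.algHom k⟮x⟯.val), ?_⟩
  rw [htop]
  exact Module.Finite.of_surjective (Algebra.linearMap _ _) fun a => ⟨⟨a, trivial⟩, rfl⟩

theorem exists_coordExp_of_le (hF : IsFF k K) {x : K} (hx : Transcendental k x)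
    [Algebra.IsSeparable k⟮x⟯ K] (P : Place k K) (hxP : P.1 x ≤ 1) : ∃ C, IsCoordExp.{u, v, w} P C := by
  classical
  haveI := IsFF.finite_adjoin hF hx
  obtain ⟨P0, e, he1, he⟩ := exists_over (K' := K) (isFF_adjoin hx) P
  have hx0 : P0.1 (IntermediateField.AdjoinSimple.gen k x) ≤ 1 := by
    have h : P.1 x = P0.1 (IntermediateField.AdjoinSimple.gen k x) ^ e := he (IntermediateField.AdjoinSimple.gen k x)
    exact (pow_le_one_iff (by omega)).mp (h ▸ hxP)
  let b := Module.finBasis k⟮x⟯ K
  set Qs := (over_finite (K' := K) (isFF_adjoin hx) P0).toFinset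
  let N : ℕ := (Qs ×ˢ (Finset.univ : Finset (Fin (Module.finrank k⟮x⟯ K)))).sup fun p => (-p.1.ord (b p.2)).toNat
  obtain ⟨π, hπ0, hπ⟩ := exists_unif P0
  let b' := b.unitsSMul (fun _ => Units.mk0 (π ^ N) (pow_ne_zero N hπ0))
  refine ⟨(P.ord (((Algebra.traceMatrix k⟮x⟯ b').det : k⟮x⟯) : K)).toNat,
    coordExp_of_disc hx (isFF_adjoin hx) P P0 hx0 ⟨e, he⟩ b' (fun i Q hQ => ?_) _ (Int.self_le_toNat _)⟩
  obtain ⟨eQ, heQ⟩ := id hQ
  have he1 := over_pos (isFF_adjoin hx) heQ
  simp only [b', Module.Basis.unitsSMul_apply, Units.smul_def, Units.val_mk0, Algebra.smul_def]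
  rw [map_mul, heQ, map_pow, hπ, val_eq_exp Q (b.ne_zero i), ← exp_nsmul, ← exp_nsmul, ← exp_add, ← exp_zero, exp_le_exp,
    nsmul_eq_mul, nsmul_eq_mul]
  have h1 : (-Q.ord (b i)).toNat ≤ N := Finset.le_sup (f := fun p : Place k K × Fin (Module.finrank k⟮x⟯ K) => (-p.1.ord (b p.2)).toNat)
    (Finset.mem_product.mpr ⟨(Set.Finite.mem_toFinset _).mpr hQ, Finset.mem_univ i⟩ : (Q, i) ∈ Qs ×ˢ Finset.univ)
  have h3 := Int.self_le_toNat (-(Q.ord (b i)))
  have h4 : (((-(Q.ord (b i))).toNat : ℕ) : ℤ) ≤ (N : ℤ) := by exact_mod_cast h1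
  have h2 : (N : ℤ) * 1 ≤ (N : ℤ) * eQ := mul_le_mul_of_nonneg_left (by exact_mod_cast he1) (by positivity)
  push_cast
  linarith

theorem exists_coordExp (hK : IsFunctionField k K) (hg : IsGeometric k K) (P : Place k K) :
    ∃ C, IsCoordExp.{u, v, w} P C := by
  obtain ⟨x, hx, hsep⟩ := exists_separating_element hK hg
  haveI := hsep
  rcases le_total (P.1 x) 1 with h | h
  · exact exists_coordExp_of_le hK.1 hx P h
  · have hx' : Transcendental k x⁻¹ := fun h' => hx (IsAlgebraic.inv_iff.mp h')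
    have e : k⟮x⁻¹⟯ = k⟮x⟯ := le_antisymm
      (IntermediateField.adjoin_simple_le_iff.mpr (inv_mem (IntermediateField.mem_adjoin_simple_self k x)))
      (IntermediateField.adjoin_simple_le_iff.mpr (by
        simpa using inv_mem (IntermediateField.mem_adjoin_simple_self k x⁻¹)))
    haveI : Algebra.IsSeparable k⟮x⁻¹⟯ K := e ▸ hsep
    exact exists_coordExp_of_le hK.1 hx' P (by rw [map_inv₀]; exact inv_le_one_of_one_le₀ h)

theorem finite_singular_coords (hK : IsFunctionField k K) (hg : IsGeometric k K) :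
    ∃ S : Set (Place k K), S.Finite ∧ ∀ P ∉ S, IsCoordExp.{u, v, w} P 0 := by
  classical
  obtain ⟨x, hx, hsep⟩ := exists_separating_element hK hg
  haveI := hsep
  haveI := IsFF.finite_adjoin hK.1 hx
  let b := Module.finBasis k⟮x⟯ K
  set d : K := (((Algebra.traceMatrix k⟮x⟯ b).det : k⟮x⟯) : K)
  choose P0 e he1 he using fun P : Place k K => exists_over (K' := K) (isFF_adjoin hx) P
  let T : Set (Place k K) := ⋃ i, Function.support fun Q : Place k K => Q.ord (b i)
  have hT : T.Finite := Set.finite_iUnion fun i => finite_support_ord hK.1 (b i)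
  refine ⟨(Function.support fun P : Place k K => P.ord d) ∪ {P | 1 < P.1 x} ∪ ⋃ Q ∈ T, {P | IsOver P (P0 Q)},
    ((finite_support_ord hK.1 d).union ?_).union (hT.biUnion fun Q _ => over_finite (K' := K) (isFF_adjoin hx) _),
    fun P hP => ?_⟩
  · refine (finite_support_ord hK.1 x).subset fun P hP => ?_
    have hx0 : x ≠ 0 := fun e => hx (e ▸ isAlgebraic_zero)
    simp only [Set.mem_setOf_eq, one_lt_val_iff P hx0] at hP
    simp only [Function.mem_support]; omega
  simp only [Set.mem_union, Function.mem_support, Set.mem_setOf_eq, Set.mem_iUnion, not_or, not_not, not_lt,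
    not_exists] at hP
  obtain ⟨⟨hd, hxP⟩, hTP⟩ := hP
  have hx0 : (P0 P).1 (IntermediateField.AdjoinSimple.gen k x) ≤ 1 := by
    have h : P.1 x = (P0 P).1 (IntermediateField.AdjoinSimple.gen k x) ^ e P :=
      he P (IntermediateField.AdjoinSimple.gen k x)
    exact (pow_le_one_iff (by have := he1 P; omega)).mp (h ▸ hxP)
  refine coordExp_of_disc hx (isFF_adjoin hx) P (P0 P) hx0 ⟨e P, he P⟩ b (fun i Q hQ => ?_) 0 (by rw [hd]; rfl)
  have h0 : Q.ord (b i) = 0 := by
    by_contra h
    obtain ⟨eQ, heQ⟩ := hQ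
    exact hTP Q (Set.mem_iUnion.mpr ⟨i, h⟩) ((over_unique (isFF_adjoin hx) (he Q) heQ).1 ▸ ⟨e P, he P⟩)
  rw [val_le_one_iff Q (b.ne_zero i), h0]

section Closure

variable {k' : Type u} {K' : Type w} [Field k'] [Field K'] [Algebra k k'] [FiniteDimensional k k']
  [Algebra K K'] [Algebra k' K'] [Algebra k K'] [IsScalarTower k k' K'] [IsScalarTower k K K']

theorem le_one_of_mem_integralClosure_map [FiniteDimensional K K'] {P : Place k K} {z : K'}
    (hz : z ∈ integralClosure (P.O.toSubring.map (algebraMap K K')) K') {R : Place k K'} (hR : IsOver R P) :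
    R.1 z ≤ 1 := by
  obtain ⟨p, hp, hpz⟩ := (mem_integralClosure_iff _ K').mp hz
  obtain ⟨q, hq, -, hqm⟩ := Polynomial.lifts_and_natDegree_eq_and_monic
    (f := ((algebraMap K K').comp P.O.subtype).rangeRestrict)
    (p := p.map (Subring.inclusion (show P.O.toSubring.map (algebraMap K K') ≤ ((algebraMap K K').comp P.O.subtype).range by
      rintro _ ⟨a, ha, rfl⟩; exact ⟨⟨a, ha⟩, rfl⟩)))
    ((Polynomial.lifts_iff_coeff_lifts _).mpr fun n => RingHom.rangeRestrict_surjective _ _) (hp.map _)
  refine val_le_one_of_monic' hR hqm ?_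
  have h1 : q.map ((algebraMap K K').comp P.O.subtype) = p.map (algebraMap _ K') := by
    have h2 := congrArg (Polynomial.map (((algebraMap K K').comp P.O.subtype).range.subtype)) hq
    rw [Polynomial.map_map, Polynomial.map_map] at h2
    exact h2
  rw [← Polynomial.eval_map, h1, Polynomial.eval_map]
  exact hpz

theorem mem_integralClosure_map (hF : IsFF k K) [FiniteDimensional K K'] {P : Place k K} {z : K'}
    (hz : ∀ R : Place k K', IsOver R P → R.1 z ≤ 1) :
    z ∈ integralClosure (P.O.toSubring.map (algebraMap K K')) K' := by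
  obtain ⟨p, hp, hpz⟩ := exists_monic_of_le_one hF P hz
  let f : P.O →+* P.O.toSubring.map (algebraMap K K') :=
    ((algebraMap K K').comp P.O.subtype).codRestrict _ fun a => ⟨a, a.2, rfl⟩
  refine (mem_integralClosure_iff _ K').mpr ⟨p.map f, hp.map f, ?_⟩
  rw [Polynomial.eval₂_map]
  exact hpz

theorem repr_le_one_of_mem_adjoin {P : Place k K} {n : ℕ} (v : Module.Basis (Fin n) k k')
    (vK : Module.Basis (Fin n) K K') (hvK : ∀ l, vK l = algebraMap k' K' (v l)) {z : K'}
    (hz : z ∈ Algebra.adjoin (P.O.toSubring.map (algebraMap K K')) (Set.range (algebraMap k' K'))) :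
    ∀ l, P.1 (vK.repr z l) ≤ 1 := by
  classical
  haveI : IsScalarTower k K K' := inferInstance
  have hmul : ∀ (c : k') (l : Fin n), vK.repr (algebraMap k' K' c) l = algebraMap k K (v.repr c l) := by
    intro c l
    conv_lhs => rw [← v.sum_repr c, map_sum]
    rw [show (∑ i, algebraMap k' K' (v.repr c i • v i)) = ∑ i, algebraMap k K (v.repr c i) • vK i from
      Finset.sum_congr rfl fun i _ => by
        rw [Algebra.smul_def, map_mul, ← IsScalarTower.algebraMap_apply, Algebra.smul_def,
          ← IsScalarTower.algebraMap_apply, hvK], Module.Basis.repr_sum_self]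
  induction hz using Algebra.adjoin_induction with
  | mem x hx =>
    obtain ⟨c, rfl⟩ := hx
    intro l; rw [hmul]; exact P.2.1 _
  | algebraMap a =>
    obtain ⟨a', ha', e⟩ := a.2
    intro l
    rw [show algebraMap (P.O.toSubring.map (algebraMap K K')) K' a = a' • algebraMap k' K' 1 by
      rw [map_one, Algebra.smul_def, mul_one]; exact e.symm, map_smul, Finsupp.smul_apply, smul_eq_mul, map_mul, hmul]
    exact mul_le_one' ha' (P.2.1 _)
  | add x y _ _ hx hy =>
    intro l
    rw [map_add, Finsupp.add_apply]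
    exact (P.1.map_add _ _).trans (max_le (hx l) (hy l))
  | mul x y _ _ hx hy =>
    intro l
    rw [← vK.sum_repr x, ← vK.sum_repr y, Finset.sum_mul_sum, map_sum, Finsupp.finsetSum_apply]
    refine P.1.map_sum_le fun i _ => ?_
    rw [map_sum, Finsupp.finsetSum_apply]
    refine P.1.map_sum_le fun j _ => ?_
    rw [smul_mul_smul_comm, map_smul, Finsupp.smul_apply, smul_eq_mul, hvK, hvK, ← map_mul, map_mul, map_mul, hmul]
    exact mul_le_one' (mul_le_one' (hx i) (hy j)) (P.2.1 _)

theorem mem_adjoin_of_repr_le_one {P : Place k K} {n : ℕ} (v : Module.Basis (Fin n) k k')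
    (vK : Module.Basis (Fin n) K K') (hvK : ∀ l, vK l = algebraMap k' K' (v l)) {z : K'}
    (hz : ∀ l, P.1 (vK.repr z l) ≤ 1) :
    z ∈ Algebra.adjoin (P.O.toSubring.map (algebraMap K K')) (Set.range (algebraMap k' K')) := by
  rw [← vK.sum_repr z]
  refine Subalgebra.sum_mem _ fun l _ => ?_
  rw [Algebra.smul_def]
  refine Subalgebra.mul_mem _ ?_ (Algebra.subset_adjoin ⟨v l, (hvK l).symm⟩)
  exact Subalgebra.algebraMap_mem (Algebra.adjoin (P.O.toSubring.map (algebraMap K K')) (Set.range (algebraMap k' K')))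
    (⟨algebraMap K K' (vK.repr z l), ⟨_, hz l, rfl⟩⟩ : P.O.toSubring.map (algebraMap K K'))

/-- Nonsingularity through coordinates. -/
theorem closure_eq_iff (hF : IsFF k K) {n : ℕ} (v : Module.Basis (Fin n) k k')
    (vK : Module.Basis (Fin n) K K') (hvK : ∀ l, vK l = algebraMap k' K' (v l)) (P : Place k K) :
    integralClosure (P.O.toSubring.map (algebraMap K K')) K' =
        Algebra.adjoin (P.O.toSubring.map (algebraMap K K')) (Set.range (algebraMap k' K')) ↔
      ∀ z : K', (∀ R : Place k K', IsOver R P → R.1 z ≤ 1) → ∀ l, P.1 (vK.repr z l) ≤ 1 := by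
  haveI : FiniteDimensional K K' := Module.Finite.of_basis vK
  refine ⟨fun h z hz => repr_le_one_of_mem_adjoin v vK hvK (h ▸ mem_integralClosure_map hF hz), fun h => ?_⟩
  refine le_antisymm (fun z hz => mem_adjoin_of_repr_le_one v vK hvK
    (h z fun R hR => le_one_of_mem_integralClosure_map hz hR)) (Algebra.adjoin_le ?_)
  rintro _ ⟨c, rfl⟩
  exact mem_integralClosure_map hF fun R _ => const_val_le_one R c

theorem closure_eq_of_coordExp (hF : IsFF k K) (h : Function.Bijective (Algebra.TensorProduct.productMap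
    (IsScalarTower.toAlgHom k k' K') (IsScalarTower.toAlgHom k K K'))) {P : Place k K} (hP : IsCoordExp.{u, v, w} P 0) :
    integralClosure (P.O.toSubring.map (algebraMap K K')) K' =
      Algebra.adjoin (P.O.toSubring.map (algebraMap K K')) (Set.range (algebraMap k' K')) := by
  obtain ⟨vK, hvK⟩ := exists_const_basis (K := K) h (Module.finBasis k k')
  refine (closure_eq_iff hF (Module.finBasis k k') vK hvK P).mpr fun z hz l => ?_
  simpa using hP k' K' h _ (Module.finBasis k k') vK hvK z hz l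

end Closure

/-- Finitely many singular places. -/
theorem finite_nonregular (hK : IsFunctionField k K) (hg : IsGeometric k K) :
    {P : Place k K | ∃ (k' : Type u) (_ : Field k') (_ : Algebra k k'), FiniteDimensional k k' ∧
      integralClosure (P.O.toSubring.map (Algebra.TensorProduct.includeRight : K →ₐ[k] k' ⊗[k] K).toRingHom) (k' ⊗[k] K) ≠
        Algebra.adjoin (P.O.toSubring.map (Algebra.TensorProduct.includeRight : K →ₐ[k] k' ⊗[k] K).toRingHom)
          (Set.range (Algebra.TensorProduct.includeLeftRingHom : k' →+* k' ⊗[k] K))}.Finite := by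
  obtain ⟨S, hS, h0⟩ := finite_singular_coords.{u, v, max u v} hK hg
  refine hS.subset fun P hP => ?_
  by_contra hPS
  obtain ⟨k', _, _, hfin, hne⟩ := hP
  haveI := hfin
  letI : Field (k' ⊗[k] K) := (hg k' hfin).toField
  letI : Algebra K (k' ⊗[k] K) := (Algebra.TensorProduct.includeRight : K →ₐ[k] k' ⊗[k] K).toRingHom.toAlgebra
  haveI : IsScalarTower k K (k' ⊗[k] K) := IsScalarTower.of_algebraMap_eq fun c =>
    ((Algebra.TensorProduct.includeRight : K →ₐ[k] k' ⊗[k] K).commutes c).symm
  refine hne (closure_eq_of_coordExp (k := k) (K := K) (k' := k') (K' := k' ⊗[k] K) hK.1 ?_ (h0 P hPS))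
  have : Algebra.TensorProduct.productMap (IsScalarTower.toAlgHom k k' (k' ⊗[k] K))
      (IsScalarTower.toAlgHom k K (k' ⊗[k] K)) = AlgHom.id k (k' ⊗[k] K) :=
    Algebra.TensorProduct.ext (AlgHom.ext fun a => by simp) (AlgHom.ext fun a => by
      simp only [AlgHom.restrictScalars_apply, AlgHom.comp_apply, Algebra.TensorProduct.includeRight_apply,
        Algebra.TensorProduct.productMap_apply_tmul, map_one, one_mul]
      rfl)
  rw [this]
  exact Function.bijective_id

/-- Finitely many digits. -/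
theorem exists_digit_space (hF : IsFF k K) (P : Place k K) (C : ℕ) :
    ∃ V : Submodule k K, FiniteDimensional k V ∧ ∀ a : K, P.1 a ≤ exp (C : ℤ) → ∃ v ∈ V, P.1 (a - v) ≤ 1 := by
  obtain ⟨r, hr⟩ := exists_resIndep hF P
  obtain ⟨π, hπ0, hπ⟩ := exists_unif P
  induction C with
  | zero => exact ⟨⊥, inferInstance, fun a ha => ⟨0, Submodule.zero_mem _, by simpa using ha⟩⟩
  | succ C ih =>
    obtain ⟨V, hV, hVa⟩ := ih
    let W : Submodule k K := Submodule.span k (Set.range fun j => r j / π ^ (C + 1))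
    haveI : FiniteDimensional k W := FiniteDimensional.span_of_finite k (Set.finite_range _)
    haveI := hV
    refine ⟨V ⊔ W, inferInstance, fun a ha => ?_⟩
    have hb : P.1 (a * π ^ (C + 1)) ≤ 1 := by
      rw [map_mul, map_pow, hπ]
      refine (mul_le_mul' ha le_rfl).trans ?_
      rw [← exp_nsmul, ← exp_add, ← exp_zero, exp_le_exp, nsmul_eq_mul]; push_cast; omega
    haveI := residue_finite hF P
    have hli : LinearIndependent k fun j => IsLocalRing.residue P.O ⟨r j, hr.1 j⟩ := by
      rw [Fintype.linearIndependent_iff]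
      intro c hc
      have h0 : IsLocalRing.residue P.O (∑ j, algebraMap k P.O (c j) * ⟨r j, hr.1 j⟩) = 0 := by
        rw [map_sum]; exact (Finset.sum_congr rfl fun i _ => (residue_smul P (c i) _).symm).trans hc
      rw [residue_eq_zero, AddSubmonoidClass.coe_finsetSum] at h0
      exact congrFun (hr.2 c (by simpa only [MulMemClass.coe_mul, coe_algebraMap_O, Algebra.smul_def] using h0))
    have hsp := hli.span_eq_top_of_card_eq_finrank' (by rw [Fintype.card_fin]; rfl)
    have hmem : IsLocalRing.residue P.O ⟨_, hb⟩ ∈ Submodule.span k (Set.range fun j => IsLocalRing.residue P.O ⟨r j, hr.1 j⟩) := by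
      rw [hsp]; trivial
    obtain ⟨c, hc⟩ := (Submodule.mem_span_range_iff_exists_fun k).mp hmem
    have h1 : P.1 (a * π ^ (C + 1) - ∑ j, c j • r j) < 1 := by
      have h0 : IsLocalRing.residue P.O (⟨_, hb⟩ - ∑ j, algebraMap k P.O (c j) * ⟨r j, hr.1 j⟩) = 0 := by
        rw [map_sub, map_sum, sub_eq_zero, ← hc]
        exact Finset.sum_congr rfl fun i _ => residue_smul P (c i) _
      rw [residue_eq_zero, AddSubgroupClass.coe_sub, AddSubmonoidClass.coe_finsetSum] at h0
      simpa only [MulMemClass.coe_mul, coe_algebraMap_O, Algebra.smul_def] using h0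
    set w := ∑ j, c j • (r j / π ^ (C + 1))
    have hwW : w ∈ W := Submodule.sum_mem _ fun j _ => Submodule.smul_mem _ _ (Submodule.subset_span ⟨j, rfl⟩)
    obtain ⟨v, hv, hvd⟩ := hVa (a - w) (by
      rw [show a - w = (a * π ^ (C + 1) - ∑ j, c j • r j) / π ^ (C + 1) by
        rw [sub_div, mul_div_cancel_right₀ _ (pow_ne_zero _ hπ0), Finset.sum_div]
        exact congrArg _ (Finset.sum_congr rfl fun j _ => (smul_div_assoc _ _ _).symm), map_div₀, map_pow, hπ]
      refine (div_le_iff₀ (zero_lt_iff.mpr (by simp))).mpr (((le_exp_neg_one_iff P).mpr h1).trans ?_)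
      rw [← exp_nsmul, ← exp_add, exp_le_exp, nsmul_eq_mul]; push_cast; omega)
    exact ⟨v + w, Submodule.add_mem_sup hv hwW, by rwa [show a - (v + w) = a - w - v by ring]⟩

end Groth.Agent.FFLib
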