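import Groth.Agent.FFLib.Geometric
import Mathlib.RingTheory.Unramified.Field
import Mathlib.RingTheory.Etale.Field
import Mathlib.RingTheory.Localization.Module

/-! Separably generated function fields are geometric. -/

set_option linter.style.haveILetI false

namespace Groth.Agent.FFLib

open FunFld IntermediateField TensorProduct

universe u v

variable {k : Type u} {K : Type v} [Field k] [Field K] [Algebra k K]

/-- `k(X) ⊗ k'` is a field. -/
theorem isField_ratFunc_tensor (k : Type u) [Field k] (k' : Type u) [Field k'] [Algebra k k']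
    [FiniteDimensional k k'] : IsField (RatFunc k ⊗[k] k') := by
  classical
  let g : Polynomial k →+* RatFunc k' :=
    (algebraMap (Polynomial k') (RatFunc k')).comp (Polynomial.mapRingHom (algebraMap k k'))
  have hg : Function.Injective g :=
    (RatFunc.algebraMap_injective k').comp (Polynomial.map_injective _ (algebraMap k k').injective)
  let G : RatFunc k →+* RatFunc k' := IsFractionRing.lift (A := Polynomial k) hg
  have hGC : ∀ c : k, G (algebraMap k (RatFunc k) c) = algebraMap k (RatFunc k') c := fun c => by
    rw [IsScalarTower.algebraMap_apply k (Polynomial k) (RatFunc k)]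
    refine (IsFractionRing.lift_algebraMap hg _).trans ?_
    show algebraMap (Polynomial k') (RatFunc k') ((algebraMap k (Polynomial k) c).map (algebraMap k k')) = _
    rw [IsScalarTower.algebraMap_apply k (Polynomial k') (RatFunc k')]
    simp [Polynomial.algebraMap_apply]
  letI : Algebra (RatFunc k) (RatFunc k') := G.toAlgebra
  haveI : IsScalarTower k (RatFunc k) (RatFunc k') := IsScalarTower.of_algebraMap_eq fun c => (hGC c).symm
  letI : Algebra (Polynomial k) (RatFunc k') := g.toAlgebra
  haveI : IsScalarTower (Polynomial k) (RatFunc k) (RatFunc k') :=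
    IsScalarTower.of_algebraMap_eq fun q => (IsFractionRing.lift_algebraMap hg q).symm
  let Φ : RatFunc k ⊗[k] k' →ₐ[RatFunc k] RatFunc k' :=
    Algebra.TensorProduct.lift (Algebra.ofId _ _)
      (IsScalarTower.toAlgHom k k' (RatFunc k')) fun _ _ => Commute.all _ _
  let b := Module.Free.chooseBasis k k'
  have hliX : LinearIndependent (Polynomial k) (fun i => algebraMap k' (RatFunc k') (b i)) := by
    rw [Fintype.linearIndependent_iff]
    intro q hq i
    have h1 : ∑ j, (q j).map (algebraMap k k') * Polynomial.C (b j) = 0 := by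
      apply RatFunc.algebraMap_injective k'
      rw [map_zero, map_sum, ← hq]
      refine Finset.sum_congr rfl fun j _ => ?_
      rw [Algebra.smul_def, map_mul]
      rfl
    ext n
    have h2 := congrArg (fun r => Polynomial.coeff r n) h1
    simp only [Polynomial.finsetSum_coeff, Polynomial.coeff_mul_C, Polynomial.coeff_map,
      Polynomial.coeff_zero] at h2
    rw [Polynomial.coeff_zero]
    refine Fintype.linearIndependent_iff.mp b.linearIndependent (fun j => (q j).coeff n) ?_ i
    simpa [Algebra.smul_def] using h2
  have hli : LinearIndependent (RatFunc k) (fun i => algebraMap k' (RatFunc k') (b i)) :=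
    (LinearIndependent.iff_fractionRing (Polynomial k) (RatFunc k)).mp hliX
  have hinj : Function.Injective Φ := by
    rw [injective_iff_map_eq_zero]
    intro z hz
    let B := b.baseChange (RatFunc k)
    rw [← B.sum_repr z] at hz ⊢
    simp only [map_sum, map_smul] at hz
    have h0 := Fintype.linearIndependent_iff.mp hli (fun i => B.repr z i) (by
      refine Eq.trans (Finset.sum_congr rfl fun i _ => ?_) hz
      simp [B, Φ])
    exact Finset.sum_eq_zero fun i _ => by rw [h0 i, zero_smul]
  haveI : IsDomain (RatFunc k ⊗[k] k') := hinj.isDomain Φ.toRingHom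
  haveI : Algebra.IsIntegral (RatFunc k) (RatFunc k ⊗[k] k') := Algebra.IsIntegral.of_finite _ _
  exact isField_of_isIntegral_of_isField' (R := RatFunc k) (Field.toIsField _)

/-- Unramified algebras over a field are reduced. -/
theorem isReduced_of_isField {L A : Type*} [CommRing L] (hL : IsField L) [CommRing A] [Algebra L A]
    [Algebra.EssFiniteType L A] [Algebra.FormallyUnramified L A] : IsReduced A :=
  letI : Field L := hL.toField
  Algebra.FormallyUnramified.isReduced_of_field L A

theorem isReduced_tensor_aux {F k' : Type*} [Field F] [Algebra k F] [Algebra F K] [IsScalarTower k F K]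
    [FiniteDimensional F K] [Algebra.IsSeparable F K] [Field k'] [Algebra k k']
    (hL : IsField (F ⊗[k] k')) : IsReduced (k' ⊗[k] K) := by
  haveI : Algebra.FormallyUnramified F K := Algebra.FormallyUnramified.of_isSeparable F K
  haveI : IsReduced ((F ⊗[k] k') ⊗[F] K) := isReduced_of_isField hL
  let c : k' ⊗[k] K ≃+* (F ⊗[k] k') ⊗[F] K :=
    (Algebra.TensorProduct.comm k k' K).toRingEquiv.trans
      ((Algebra.TensorProduct.cancelBaseChange k F K K k').symm.toRingEquiv.trans
        (Algebra.TensorProduct.comm F K (F ⊗[k] k')).toRingEquiv)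
  exact isReduced_of_injective c c.injective

/-- Descent of the field property along a purely inseparable extension. -/
theorem isField_of_purelyInseparable {E k' : Type*} [Field E] [Field k'] [Algebra k E] [Algebra k k']
    [Algebra E k'] [IsScalarTower k E k'] [IsPurelyInseparable E k']
    (hA : IsField (E ⊗[k] K)) [IsReduced (k' ⊗[k] K)] : IsField (k' ⊗[k] K) := by
  let j : E ⊗[k] K →ₐ[k] k' ⊗[k] K :=
    Algebra.TensorProduct.map (IsScalarTower.toAlgHom k E k') (AlgHom.id k K)
  obtain ⟨q, hq⟩ := ExpChar.exists k
  haveI : ExpChar E q := expChar_of_injective_algebraMap (algebraMap k E).injective q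
  haveI : Nontrivial (k' ⊗[k] K) :=
    (Algebra.TensorProduct.includeRight_injective (A := k') (B := K) (algebraMap k k').injective).nontrivial
  haveI : ExpChar (k' ⊗[k] K) q := expChar_of_injective_algebraMap (algebraMap k _).injective q
  have hpow : ∀ z : k' ⊗[k] K, ∃ n : ℕ, ∃ a, j a = z ^ q ^ n := by
    intro z
    induction z using TensorProduct.induction_on with
    | zero => exact ⟨0, 0, by simp⟩
    | tmul a w =>
      obtain ⟨n, b, hb⟩ := IsPurelyInseparable.pow_mem E q a
      refine ⟨n, b ⊗ₜ (w ^ q ^ n), ?_⟩
      show algebraMap E k' b ⊗ₜ[k] (w ^ q ^ n) = _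
      rw [Algebra.TensorProduct.tmul_pow]
      exact congrArg (fun u => u ⊗ₜ[k] (w ^ q ^ n)) hb
    | add a b ha hb =>
      obtain ⟨m, a', ha'⟩ := ha
      obtain ⟨n, b', hb'⟩ := hb
      refine ⟨m + n, a' ^ q ^ n + b' ^ q ^ m, ?_⟩
      rw [map_add, map_pow, map_pow, ha', hb', add_pow_expChar_pow, ← pow_mul, ← pow_mul,
        ← pow_add, ← pow_add, add_comm n m]
  refine ⟨exists_pair_ne _, mul_comm, fun {a} ha => ?_⟩
  obtain ⟨n, b, hb⟩ := hpow a
  have hb0 : b ≠ 0 := fun e => by
    rw [e, map_zero] at hb
    exact ha (pow_eq_zero_iff (expChar_pow_pos k q n).ne' |>.mp hb.symm)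
  obtain ⟨b', hb'⟩ := hA.mul_inv_cancel hb0
  obtain ⟨m, hm⟩ := Nat.exists_eq_add_of_le' (expChar_pow_pos k q n)
  refine ⟨a ^ m * j b', ?_⟩
  rw [← mul_assoc, ← pow_succ', show m + 1 = q ^ n by omega, ← hb, ← map_mul, hb', map_one]

/-- A separably generated function field is geometric. -/
theorem isGeometric_of_separating (hK : IsFunctionField k K) {x : K} (hx : Transcendental k x)
    (hsep : Algebra.IsSeparable k⟮x⟯ K) : IsGeometric k K := by
  intro k' _ _ hfin
  haveI := hfin
  haveI := hsep
  haveI := IsFF.finite_adjoin hK.1 hx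
  let e := RatFunc.algEquivOfTranscendental x hx
  have hL : IsField (k⟮x⟯ ⊗[k] k') := MulEquiv.isField (isField_ratFunc_tensor k k')
    (Algebra.TensorProduct.congr e (AlgEquiv.refl : k' ≃ₐ[k] k')).symm.toMulEquiv
  haveI : IsReduced (k' ⊗[k] K) := isReduced_tensor_aux (F := k⟮x⟯) hL
  haveI : Algebra.IsSeparable k (separableClosure k k') := separableClosure.isSeparable k k'
  exact isField_of_purelyInseparable (E := separableClosure k k')
    (isField_tensor_of_isSeparable hK (separableClosure k k'))

/-- Separating elements stay separating in separable extensions. -/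
theorem isSeparable_over_map {k' : Type*} {K' : Type*} [Field k'] [Field K'] [Algebra k k'] [Algebra K K']
    [Algebra k' K'] [Algebra k K'] [IsScalarTower k k' K'] [IsScalarTower k K K']
    [Algebra.IsSeparable K K'] {x : K} (hsep : Algebra.IsSeparable k⟮x⟯ K) :
    Algebra.IsSeparable k'⟮algebraMap K K' x⟯ K' := by
  haveI := hsep
  have hmem : ∀ m : k⟮x⟯, algebraMap K K' (m : K) ∈ k'⟮algebraMap K K' x⟯ := by
    rintro ⟨m, hm⟩
    show algebraMap K K' m ∈ _
    induction hm using IntermediateField.adjoin_induction with
    | mem a ha => rw [Set.mem_singleton_iff.mp ha]; exact mem_adjoin_simple_self _ _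
    | algebraMap c =>
      rw [← IsScalarTower.algebraMap_apply k K K', IsScalarTower.algebraMap_apply k k' K']
      exact IntermediateField.algebraMap_mem _ _
    | add a b _ _ ha hb => rw [map_add]; exact add_mem ha hb
    | inv a _ ha => rw [map_inv₀]; exact inv_mem ha
    | mul a b _ _ ha hb => rw [map_mul]; exact mul_mem ha hb
  letI : Algebra k⟮x⟯ k'⟮algebraMap K K' x⟯ :=
    (((algebraMap K K').comp (algebraMap k⟮x⟯ K)).codRestrict k'⟮algebraMap K K' x⟯.toSubfield hmem).toAlgebra
  haveI : IsScalarTower k⟮x⟯ k'⟮algebraMap K K' x⟯ K' := IsScalarTower.of_algebraMap_eq fun m =>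
    (IsScalarTower.algebraMap_apply k⟮x⟯ K K' m)
  haveI : Algebra.IsSeparable k⟮x⟯ K' := Algebra.IsSeparable.trans k⟮x⟯ K K'
  exact Algebra.isSeparable_tower_top_of_isSeparable k⟮x⟯ k'⟮algebraMap K K' x⟯ K'

/-- Finite separable extensions of geometric function fields are geometric. -/
theorem isGeometric_ext {k' : Type u} {K' : Type v} [Field k'] [Field K'] [Algebra k k'] [Algebra K K']
    [Algebra k' K'] [Algebra k K'] [IsScalarTower k k' K'] [IsScalarTower k K K']
    [Algebra.IsSeparable K K'] (hK : IsFunctionField k K) (hg : IsGeometric k K)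
    (hK' : IsFunctionField k' K') : IsGeometric k' K' := by
  obtain ⟨x, hx, hsep⟩ := exists_separating_element hK hg
  have hsep' := isSeparable_over_map (k' := k') (K' := K') hsep
  refine isGeometric_of_separating hK' (fun halg => ?_) hsep'
  obtain ⟨y, hy, -⟩ := hK'.1
  haveI : Algebra.IsAlgebraic k'⟮algebraMap K K' x⟯ K' := inferInstance
  haveI : Algebra.IsAlgebraic k' k'⟮algebraMap K K' x⟯ :=
    IntermediateField.isAlgebraic_adjoin_simple halg.isIntegral
  haveI : Algebra.IsAlgebraic k' K' := Algebra.IsAlgebraic.trans k' k'⟮algebraMap K K' x⟯ K'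
  exact hy (Algebra.IsAlgebraic.isAlgebraic y)

end Groth.Agent.FFLib
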