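import Groth.Agent.FFLib.Ram.ConstExt
import Groth.Agent.FFLib.Diff.Geom

/-! Scalar extensions of function fields. -/

set_option linter.unusedSectionVars false
set_option linter.style.haveILetI false

namespace Groth.Agent.FFLib

open FunFld WithZero IntermediateField
open scoped TensorProduct

universe u v

section Geometric

variable {k k' : Type u} {K K' : Type v} [Field k] [Field k'] [Field K] [Field K']
  [Algebra k k'] [FiniteDimensional k k'] [Algebra k K] [Algebra K K'] [Algebra k' K'] [Algebra k K']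
  [IsScalarTower k k' K'] [IsScalarTower k K K']

theorem finite_scalar_ext (h : Function.Bijective (Algebra.TensorProduct.productMap
    (IsScalarTower.toAlgHom k k' K') (IsScalarTower.toAlgHom k K K'))) : FiniteDimensional K K' := by
  obtain ⟨vK, -⟩ := exists_const_basis (K := K) h (Module.finBasis k k')
  exact Module.Finite.of_basis vK

/-- `IsFF` over the larger constant field. -/
theorem isFF_scalar_ext [FiniteDimensional K K'] (hF : IsFF k K) : IsFF k' K' := by
  classical
  obtain ⟨x, hx, hfin⟩ := IsFF.ext (K' := K') hF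
  refine ⟨x, fun halg => hx (halg.restrictScalars k), ?_⟩
  obtain ⟨s, hs⟩ := hfin.fg_top
  have hle : ∀ a : K', a ∈ k⟮x⟯ → a ∈ k'⟮x⟯ := fun a ha => by
    have : k⟮x⟯ ≤ (k'⟮x⟯).restrictScalars k := adjoin_simple_le_iff.mpr (mem_adjoin_simple_self k' x)
    exact this ha
  refine ⟨⟨s, eq_top_iff.mpr fun z _ => ?_⟩⟩
  have hz : z ∈ Submodule.span k⟮x⟯ (s : Set K') := hs ▸ Submodule.mem_top
  induction hz using Submodule.span_induction with
  | mem a ha => exact Submodule.subset_span ha
  | zero => exact Submodule.zero_mem _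
  | add a b _ _ ha hb => exact Submodule.add_mem _ (ha trivial) (hb trivial)
  | smul c a _ ha =>
    exact Submodule.smul_mem _ (⟨(c : K'), hle _ c.2⟩ : k'⟮x⟯) (ha trivial)

theorem scalar_ext_geometric (h : Function.Bijective (Algebra.TensorProduct.productMap
    (IsScalarTower.toAlgHom k k' K') (IsScalarTower.toAlgHom k K K'))) (hg : IsGeometric k K) :
    IsGeometric k' K' := by
  intro k'' _ _ hfin
  haveI := hfin
  letI : Algebra k k'' := ((algebraMap k' k'').comp (algebraMap k k')).toAlgebra
  haveI : IsScalarTower k k' k'' := IsScalarTower.of_algebraMap_eq fun _ => rfl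
  haveI : FiniteDimensional k k'' := FiniteDimensional.trans k k' k''
  have hA : IsField (k'' ⊗[k] K) := hg k'' inferInstance
  let f : k' ⊗[k] K →ₐ[k'] K' := Algebra.TensorProduct.lift (Algebra.ofId k' K')
    (IsScalarTower.toAlgHom k K K') fun a b => Commute.all _ _
  have hf : Function.Bijective f := by
    have : (f : k' ⊗[k] K → K') = Algebra.TensorProduct.productMap
        (IsScalarTower.toAlgHom k k' K') (IsScalarTower.toAlgHom k K K') := by
      funext w
      induction w with
      | zero => simp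
      | tmul a b => simp [f]
      | add a b ha hb => rw [map_add, map_add, ha, hb]
    rw [this]; exact h
  let e : k'' ⊗[k'] K' ≃ₐ[k'] k'' ⊗[k] K :=
    (Algebra.TensorProduct.congr AlgEquiv.refl (AlgEquiv.ofBijective f hf)).symm.trans
      ((Algebra.TensorProduct.cancelBaseChange k k' k'' k'' K).restrictScalars k')
  exact MulEquiv.isField hA e.toMulEquiv

theorem algClosed_of_geometric (hg : IsGeometric k' K') (y : K') (hy : IsAlgebraic k' y) :
    y ∈ Set.range (algebraMap k' K') := by
  by_contra hne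
  have hint := hy.isIntegral
  haveI : Fact (Irreducible (minpoly k' y)) := ⟨minpoly.irreducible hint⟩
  haveI : FiniteDimensional k' (AdjoinRoot (minpoly k' y)) :=
    (AdjoinRoot.powerBasis (minpoly.ne_zero hint)).finite
  have hfield := hg (AdjoinRoot (minpoly k' y)) inferInstance
  letI := hfield.toField
  let φy : AdjoinRoot (minpoly k' y) →ₐ[k'] K' :=
    AdjoinRoot.liftAlgHom (minpoly k' y) (Algebra.ofId k' K') y (minpoly.aeval k' y)
  let g : AdjoinRoot (minpoly k' y) ⊗[k'] K' →ₐ[k'] K' :=
    Algebra.TensorProduct.productMap φy (AlgHom.id k' K')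
  have hinj : Function.Injective g := g.toRingHom.injective
  set a : AdjoinRoot (minpoly k' y) := AdjoinRoot.root (minpoly k' y)
  have hφa : φy a = y := AdjoinRoot.liftAlgHom_root _ _ _ _
  have heq : a ⊗ₜ[k'] (1 : K') = 1 ⊗ₜ[k'] y := hinj (by simp [g, hφa])
  have hanot : a ∉ Submodule.span k' {(1 : AdjoinRoot (minpoly k' y))} := by
    rw [Submodule.mem_span_singleton]
    rintro ⟨c, hc⟩
    refine hne ⟨c, ?_⟩
    have := congrArg φy hc
    rw [hφa, map_smul, map_one, Algebra.smul_def, mul_one] at this
    exact this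
  obtain ⟨l, hla, hl1⟩ := Submodule.exists_dual_map_eq_bot_of_notMem hanot inferInstance
  have hl0 : l 1 = 0 := by
    have : l 1 ∈ (Submodule.span k' {(1 : AdjoinRoot (minpoly k' y))}).map l := ⟨1, Submodule.mem_span_singleton_self 1, rfl⟩
    rwa [hl1, Submodule.mem_bot] at this
  have h2 := congrArg (fun w => TensorProduct.lid k' K' (TensorProduct.map l LinearMap.id w)) heq
  simp [hl0] at h2
  exact hla h2

theorem isFunctionField_scalar_ext (h : Function.Bijective (Algebra.TensorProduct.productMap
    (IsScalarTower.toAlgHom k k' K') (IsScalarTower.toAlgHom k K K')))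
    (hK : IsFunctionField k K) (hg : IsGeometric k K) : IsFunctionField k' K' ∧ IsGeometric k' K' := by
  haveI := finite_scalar_ext h
  have hg' := scalar_ext_geometric h hg
  exact ⟨⟨isFF_scalar_ext hK.1, algClosed_of_geometric hg'⟩, hg'⟩

end Geometric

section Unique

variable {k k' : Type u} {K K' : Type v} [Field k] [Field k'] [Field K] [Field K']
  [Algebra k k'] [FiniteDimensional k k'] [Algebra k K] [Algebra K K'] [Algebra k' K'] [Algebra k K']
  [IsScalarTower k k' K'] [IsScalarTower k K K']

theorem exists_pow_mem (h : Function.Bijective (Algebra.TensorProduct.productMap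
    (IsScalarTower.toAlgHom k k' K') (IsScalarTower.toAlgHom k K K'))) (q : ℕ) [ExpChar k q]
    (E : IntermediateField k k') [IsPurelyInseparable E k'] (z : K') :
    ∃ n : ℕ, z ^ q ^ n ∈ Algebra.adjoin K (algebraMap k' K' '' (E : Set k')) := by
  haveI : ExpChar E q := expChar_of_injective_algebraMap (algebraMap k E).injective q
  haveI : ExpChar K' q := expChar_of_injective_algebraMap (algebraMap k K').injective q
  obtain ⟨w, rfl⟩ := h.2 z
  induction w with
  | zero => exact ⟨0, by simp⟩
  | tmul c a =>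
    obtain ⟨n, b, hb⟩ := IsPurelyInseparable.pow_mem E q c
    refine ⟨n, ?_⟩
    simp only [Algebra.TensorProduct.productMap_apply_tmul, IsScalarTower.coe_toAlgHom']
    rw [mul_pow, ← map_pow, ← map_pow]
    refine Subalgebra.mul_mem _ (Algebra.subset_adjoin ⟨_, ?_, rfl⟩) (Subalgebra.algebraMap_mem _ _)
    rw [← hb]; exact b.2
  | add a b ha hb =>
    obtain ⟨m, hm⟩ := ha
    obtain ⟨n, hn⟩ := hb
    refine ⟨m + n, ?_⟩
    rw [map_add, add_pow_expChar_pow]
    refine Subalgebra.add_mem _ ?_ ?_
    · rw [pow_add, pow_mul]; exact Subalgebra.pow_mem _ hm _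
    · rw [pow_add, mul_comm, pow_mul]; exact Subalgebra.pow_mem _ hn _

/-- Agreement on a subfield containing powers of all elements gives equality. -/
theorem place_eq_of_pow {Q R : Place k K'} (hp : ∀ z : K', ∃ m : ℕ, 0 < m ∧ (Q.1 (z ^ m) ≤ 1 → R.1 (z ^ m) ≤ 1)) :
    Q = R := by
  refine place_eq_of_le fun z hz => ?_
  obtain ⟨m, hm, hmz⟩ := hp z
  rw [map_pow, map_pow] at hmz
  exact (pow_le_one_iff hm.ne').mp (hmz (pow_le_one' hz m))

theorem place_eq_of_purelyInseparable (h : Function.Bijective (Algebra.TensorProduct.productMap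
    (IsScalarTower.toAlgHom k k' K') (IsScalarTower.toAlgHom k K K'))) (hF : IsFF k K) (P : Place k K)
    (hpi : IsPurelyInseparable k k' ∨ IsPurelyInseparable k (Res P)) {Q R : Place k K'}
    (hQ : IsOver Q P) (hR : IsOver R P) : Q = R := by
  classical
  haveI := finite_scalar_ext h
  obtain ⟨q, hq⟩ := ExpChar.exists k
  haveI : ExpChar K' q := expChar_of_injective_algebraMap (algebraMap k K').injective q
  obtain ⟨eQ, heQ⟩ := hQ
  obtain ⟨eR, heR⟩ := hR
  rcases hpi with hk' | hκ
  · haveI : IsPurelyInseparable (⊥ : IntermediateField k k') k' :=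
      IsPurelyInseparable.tower_top k (⊥ : IntermediateField k k') k'
    refine place_eq_of_pow fun z => ?_
    obtain ⟨n, hn⟩ := exists_pow_mem h q (⊥ : IntermediateField k k') z
    refine ⟨q ^ n, expChar_pow_pos k q n, ?_⟩
    have hmem : z ^ q ^ n ∈ (⊥ : Subalgebra K K') := (Algebra.adjoin_le (fun w hw => by
      obtain ⟨c, hc, rfl⟩ := hw
      obtain ⟨c0, rfl⟩ := IntermediateField.mem_bot.mp hc
      exact Algebra.mem_bot.mpr ⟨algebraMap k K c0, by
        rw [← IsScalarTower.algebraMap_apply k K K', ← IsScalarTower.algebraMap_apply k k' K']⟩) : Algebra.adjoin K (algebraMap k' K' '' ((⊥ : IntermediateField k k') : Set k')) ≤ ⊥) hn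
    obtain ⟨a, ha⟩ := Algebra.mem_bot.mp hmem
    rw [← ha, heQ, heR, pow_le_one_iff (by have := over_pos hF heQ; omega), pow_le_one_iff (by have := over_pos hF heR; omega)]
    exact id
  -- separable part of the constants
  let E := separableClosure k k'
  haveI : Algebra.IsSeparable k E := separableClosure.isSeparable k k'
  let S : Set K' := algebraMap k' K' '' (E : Set k')
  let Ks : IntermediateField K K' := IntermediateField.adjoin K S
  have hKs : Ks.toSubalgebra = Algebra.adjoin K S :=
    IntermediateField.adjoin_toSubalgebra_of_isAlgebraic fun x _ => Algebra.IsAlgebraic.isAlgebraic x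
  letI : Algebra E Ks := (((algebraMap k' K').comp (algebraMap E k')).codRestrict Ks.toSubfield
    fun c => IntermediateField.subset_adjoin K S ⟨_, c.2, rfl⟩).toAlgebra
  haveI : IsScalarTower k E Ks := IsScalarTower.of_algebraMap_eq fun c => Subtype.ext (by
    show algebraMap k K' c = algebraMap k' K' (algebraMap k k' c)
    rw [← IsScalarTower.algebraMap_apply])
  haveI : IsScalarTower k K Ks := IsScalarTower.of_algebraMap_eq fun c => Subtype.ext
    (IsScalarTower.algebraMap_apply k K K' c)
  haveI : IsScalarTower k Ks K' := IsScalarTower.of_algebraMap_eq fun _ => rfl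
  let g : E ⊗[k] K →ₐ[k] Ks := Algebra.TensorProduct.productMap
    (IsScalarTower.toAlgHom k E Ks) (IsScalarTower.toAlgHom k K Ks)
  have hg : ∀ w, ((g w : Ks) : K') = Algebra.TensorProduct.productMap
      (IsScalarTower.toAlgHom k k' K') (IsScalarTower.toAlgHom k K K')
      (LinearMap.rTensor K E.val.toLinearMap w) := fun w => by
    induction w with
    | zero => simp
    | tmul a b =>
      simp only [g, LinearMap.rTensor_tmul, Algebra.TensorProduct.productMap_apply_tmul]
      rfl
    | add a b ha hb => rw [map_add g, map_add (LinearMap.rTensor K E.val.toLinearMap), map_add, IntermediateField.coe_add, ha, hb]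
  have hgb : Function.Bijective g := by
    refine ⟨fun a b hab => ?_, fun z => ?_⟩
    · have h1 := congrArg (fun u : Ks => (u : K')) hab
      simp only [hg] at h1
      exact Module.Flat.rTensor_preserves_injective_linearMap E.val.toLinearMap Subtype.val_injective (h.1 h1)
    · have hz : (z : K') ∈ Algebra.adjoin K S := hKs ▸ z.2
      suffices ∀ y ∈ Algebra.adjoin K S, ∃ w, (g w : K') = y by
        obtain ⟨w, hw⟩ := this _ hz; exact ⟨w, Subtype.ext hw⟩
      intro y hy
      induction hy using Algebra.adjoin_induction with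
      | mem x hx =>
        obtain ⟨c, hc, rfl⟩ := hx
        refine ⟨(⟨c, hc⟩ : E) ⊗ₜ 1, ?_⟩
        simp [g]; rfl
      | algebraMap a => exact ⟨1 ⊗ₜ a, by simp [g]⟩
      | add a b _ _ ha hb =>
        obtain ⟨⟨u, hu⟩, v, hv⟩ := And.intro ha hb
        exact ⟨u + v, by rw [map_add, IntermediateField.coe_add, hu, hv]⟩
      | mul a b _ _ ha hb =>
        obtain ⟨⟨u, hu⟩, v, hv⟩ := And.intro ha hb
        exact ⟨u * v, by rw [map_mul, IntermediateField.coe_mul, hu, hv]⟩
  letI : Algebra P.O Ks := ((algebraMap K Ks).comp P.O.subtype).toAlgebra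
  haveI : IsScalarTower P.O K Ks := IsScalarTower.of_algebraMap_eq fun _ => rfl
  obtain ⟨hB, -⟩ := constExt_right (K' := Ks) hgb hF P (resHom P) (fun a => residue_eq_zero P a)
  -- integral elements have the same behaviour at all places
  have key : ∀ w : Ks, (∀ T : Place k Ks, IsOver T P → T.1 w ≤ 1) →
      (∀ T : Place k Ks, IsOver T P → T.1 w < 1) ∨ (∀ T : Place k Ks, IsOver T P → T.1 w = 1) := by
    intro w hw
    haveI : ExpChar Ks q := expChar_of_injective_algebraMap (algebraMap k Ks).injective q
    suffices ∃ (n : ℕ) (γ : E), ∀ T : Place k Ks, IsOver T P → T.1 (w ^ q ^ n - algebraMap E Ks γ) < 1 by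
      obtain ⟨n, γ, hγ⟩ := this
      rcases eq_or_ne γ 0 with rfl | hγ0
      · refine Or.inl fun T hT => ?_
        have := hγ T hT
        rw [map_zero, sub_zero, map_pow] at this
        exact (pow_lt_one_iff (expChar_pow_pos k q n).ne').mp this
      · refine Or.inr fun T hT => ?_
        have h1 : T.1 (algebraMap E Ks γ) = 1 := by
          refine le_antisymm (const_val_le_one T γ) (not_lt.mp fun hlt => ?_)
          have h2 := const_val_le_one (k := k) T γ⁻¹
          rw [map_inv₀ (algebraMap E Ks), map_inv₀, inv_le_one₀ (zero_lt_iff.mpr (val_ne_zero T ((_root_.map_ne_zero _).mpr hγ0)))] at h2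
          exact h2.not_gt hlt
        have h3 := Valuation.map_add_eq_of_lt_right T.1 ((hγ T hT).trans_eq h1.symm)
        rw [sub_add_cancel, h1, map_pow] at h3
        exact (pow_eq_one_iff.mp h3).resolve_right (expChar_pow_pos k q n).ne'
    have hmem : w ∈ Algebra.adjoin P.O (Set.range (algebraMap E Ks)) := by
      have hwint : w ∈ (integralClosure P.O Ks).toSubring := by
        obtain ⟨p, hp, hpz⟩ := exists_monic_of_le_one hF P hw
        exact (mem_integralClosure_iff P.O Ks).mpr ⟨p, hp, hpz⟩
      rw [hB] at hwint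
      exact hwint
    clear hw
    induction hmem using Algebra.adjoin_induction with
    | mem x hx =>
      obtain ⟨c, rfl⟩ := hx
      exact ⟨0, c, fun T _ => by rw [pow_zero, pow_one, sub_self, map_zero]; exact one_pos⟩
    | algebraMap a =>
      obtain ⟨n, c, hc⟩ := IsPurelyInseparable.pow_mem k q (IsLocalRing.residue P.O a)
      refine ⟨n, algebraMap k E c, fun T hT => ?_⟩
      obtain ⟨e, he⟩ := hT
      have h0 : IsLocalRing.residue P.O (a ^ q ^ n - algebraMap k P.O c) = 0 := by
        rw [map_sub, map_pow, ← hc, sub_eq_zero]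
        rfl
      rw [residue_eq_zero] at h0
      rw [← IsScalarTower.algebraMap_apply k E Ks, IsScalarTower.algebraMap_apply k K Ks,
        show algebraMap P.O Ks a = algebraMap K Ks (a : K) from rfl, ← map_pow, ← map_sub, he]
      exact pow_lt_one' h0 (by have := over_pos hF he; omega)
    | add a b _ _ ha hb =>
      obtain ⟨m, γ, hγ⟩ := ha
      obtain ⟨n, δ, hδ⟩ := hb
      refine ⟨m + n, γ ^ q ^ n + δ ^ q ^ m, fun T hT => ?_⟩
      rw [add_pow_expChar_pow, map_add, map_pow, map_pow, add_sub_add_comm, pow_add, pow_mul,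
        ← sub_pow_expChar_pow, mul_comm (q ^ m), pow_mul, ← sub_pow_expChar_pow]
      refine (T.1.map_add _ _).trans_lt (max_lt ?_ ?_) <;> rw [map_pow]
      · exact pow_lt_one' (hγ T hT) (expChar_pow_pos k q n).ne'
      · exact pow_lt_one' (hδ T hT) (expChar_pow_pos k q m).ne'
    | mul a b _ _ ha hb =>
      obtain ⟨m, γ, hγ⟩ := ha
      obtain ⟨n, δ, hδ⟩ := hb
      refine ⟨m + n, γ ^ q ^ n * δ ^ q ^ m, fun T hT => ?_⟩
      set A := a ^ q ^ m
      set B := b ^ q ^ n
      have hA : T.1 (A ^ q ^ n - algebraMap E Ks (γ ^ q ^ n)) < 1 := by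
        rw [map_pow, ← sub_pow_expChar_pow, map_pow]; exact pow_lt_one' (hγ T hT) (expChar_pow_pos k q n).ne'
      have hB' : T.1 (B ^ q ^ m - algebraMap E Ks (δ ^ q ^ m)) < 1 := by
        rw [map_pow, ← sub_pow_expChar_pow, map_pow]; exact pow_lt_one' (hδ T hT) (expChar_pow_pos k q m).ne'
      have e : (a * b) ^ q ^ (m + n) = A ^ q ^ n * B ^ q ^ m := by
        simp only [A, B]; rw [← pow_mul, ← pow_mul, ← pow_add, ← pow_add, mul_pow, add_comm n m]
      rw [e, map_mul, show A ^ q ^ n * B ^ q ^ m - algebraMap E Ks (γ ^ q ^ n) * algebraMap E Ks (δ ^ q ^ m) =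
        (A ^ q ^ n - algebraMap E Ks (γ ^ q ^ n)) * B ^ q ^ m +
          algebraMap E Ks (γ ^ q ^ n) * (B ^ q ^ m - algebraMap E Ks (δ ^ q ^ m)) by ring]
      have hB1 : T.1 (B ^ q ^ m) ≤ 1 := by
        rw [← sub_add_cancel (B ^ q ^ m) (algebraMap E Ks (δ ^ q ^ m))]
        exact (T.1.map_add _ _).trans (max_le hB'.le (const_val_le_one T _))
      refine (T.1.map_add _ _).trans_lt (max_lt ?_ ?_) <;> rw [map_mul]
      · exact (mul_le_of_le_one_right' hB1).trans_lt hA
      · exact (mul_le_of_le_one_left' (const_val_le_one T _)).trans_lt hB'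
  -- the restrictions to `Ks`
  have hFs : IsFF k Ks := IsFF.ext (K' := Ks) hF
  obtain ⟨Q₁, e₁, -, h₁⟩ := exists_over (K' := K') hFs Q
  obtain ⟨R₁, e₂, -, h₂⟩ := exists_over (K' := K') hFs R
  have hover : ∀ {T : Place k K'} {T₁ : Place k Ks} {eT e₁ : ℕ}, IsOverWith T P eT → IsOverWith T T₁ e₁ → IsOver T₁ P := by
    intro T T₁ eT e₁ hT h₁
    obtain ⟨P', e', -, he'⟩ := exists_over (K' := Ks) hF T₁
    have : IsOverWith T P' (e' * e₁) := fun x => by
      rw [show algebraMap K K' x = algebraMap Ks K' (algebraMap K Ks x) from IsScalarTower.algebraMap_apply K Ks K' x,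
        h₁, he', ← pow_mul]
    exact (over_unique hF this hT).1 ▸ ⟨e', he'⟩
  have hQ₁ := hover heQ h₁
  have hR₁ := hover heR h₂
  have heq : Q₁ = R₁ := by
    by_contra hne
    set Qs := (over_finite (K' := Ks) hF P).toFinset
    have hQs : ∀ T, T ∈ Qs ↔ IsOver T P := fun T => Set.Finite.mem_toFinset _
    obtain ⟨w, hw⟩ := exists_approx Qs (fun T => if T = Q₁ then 0 else 1) (fun _ => 1)
    have hwle : ∀ T : Place k Ks, IsOver T P → T.1 w ≤ 1 := fun T hT => by
      have := (le_exp_neg_one_iff T).mp (hw T ((hQs T).mpr hT))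
      rw [← sub_add_cancel w (if T = Q₁ then 0 else 1)]
      exact (T.1.map_add _ _).trans (max_le this.le (by split_ifs <;> simp))
    have h0 : Q₁.1 w < 1 := by
      have := (le_exp_neg_one_iff Q₁).mp (hw Q₁ ((hQs Q₁).mpr hQ₁))
      rwa [if_pos rfl, sub_zero] at this
    have h1 : R₁.1 w = 1 := by
      have := (le_exp_neg_one_iff R₁).mp (hw R₁ ((hQs R₁).mpr hR₁))
      rw [if_neg (Ne.symm hne)] at this
      rw [← sub_add_cancel w 1, Valuation.map_add_eq_of_lt_right _ (by rwa [map_one]), map_one]
    rcases key w hwle with h | h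
    · exact (h R₁ hR₁).ne h1
    · exact h0.ne (h Q₁ hQ₁)
  refine place_eq_of_pow fun z => ?_
  haveI : IsPurelyInseparable E k' := separableClosure.isPurelyInseparable k k'
  obtain ⟨n, hn⟩ := exists_pow_mem h q E z
  refine ⟨q ^ n, expChar_pow_pos k q n, fun hle => ?_⟩
  have hn' : z ^ q ^ n ∈ Ks := by
    have : z ^ q ^ n ∈ Ks.toSubalgebra := hKs.symm ▸ hn
    exact this
  change Q.1 (algebraMap Ks K' ⟨_, hn'⟩) ≤ 1 at hle
  rw [h₁, pow_le_one_iff (by have := over_pos hFs h₁; omega), heq] at hle
  show R.1 (algebraMap Ks K' ⟨_, hn'⟩) ≤ 1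
  rw [h₂]
  exact pow_le_one' hle _

end Unique

end Groth.Agent.FFLib
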