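import Groth.Agent.FFLib.Diff.Dual
import Mathlib.RingTheory.Valuation.Extension
import Mathlib.RingTheory.Adjoin.PowerBasis

/-! Uniformisers as generators: the different exponent from the derivative of a minimal polynomial. -/

set_option linter.style.haveILetI false

namespace Groth.Agent.FFLib

open FunFld WithZero Polynomial

universe u v w

variable {k : Type u} {K K' : Type v} [Field k] [Field K] [Field K'] [Algebra k K] [Algebra K K']
  [Algebra k K'] [IsScalarTower k K K'] [FiniteDimensional K K'] {P : Place k K} {Q : Place k K'} {e : ℕ}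

omit [FiniteDimensional K K'] [IsScalarTower k K K'] in
theorem isResTrivial_of_surjective [P.1.HasExtension Q.1]
    (hf : Function.Surjective (algebraMap (IsLocalRing.ResidueField P.O) (IsLocalRing.ResidueField Q.O))) :
    IsResTrivial P Q := fun z hz => by
  obtain ⟨r, hr⟩ := hf (IsLocalRing.residue Q.O ⟨z, hz⟩)
  obtain ⟨c, rfl⟩ := IsLocalRing.residue_surjective r
  refine ⟨c.1, c.2, ?_⟩
  rw [Valuation.HasExtension.algebraMap_residue_eq_residue_algebraMap] at hr
  have h := (residue_eq_zero Q (⟨z, hz⟩ - algebraMap P.O Q.O c)).mp (by rw [map_sub, hr, sub_self])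
  exact h

theorem deg_le_of_resTrivial (hF : IsFF k K) (he : IsOverWith Q P e) (hf : IsResTrivial P Q) :
    Q.deg ≤ P.deg := by
  obtain ⟨a, ha⟩ := exists_resIndep (IsFF.ext (K' := K') hF) Q
  choose c hc hca using fun i => hf (a i) (ha.1 i)
  refine ResIndep.card_le hF (a := c) ⟨hc, fun l hl => ha.2 l ?_⟩
  have hQ : Q.1 (algebraMap K K' (∑ i, l i • c i)) < 1 := by
    rw [he]; exact pow_lt_one₀ zero_le hl (by have := over_pos hF he; omega)
  have hsum : ∑ i, l i • a i = algebraMap K K' (∑ i, l i • c i) + ∑ i, l i • (a i - algebraMap K K' (c i)) := by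
    rw [map_sum, ← Finset.sum_add_distrib]
    refine Finset.sum_congr rfl fun i _ => ?_
    simp only [Algebra.smul_def, map_mul, ← IsScalarTower.algebraMap_apply]
    ring
  rw [hsum]
  refine Valuation.map_add_lt _ hQ (Valuation.map_sum_lt _ one_ne_zero fun i _ => ?_)
  rw [Algebra.smul_def, map_mul]
  exact lt_of_le_of_lt (mul_le_of_le_one_left' (Q.2.1 _)) (hca i)

/-- A uniformiser that is a unit at the other places generates. -/
theorem adjoin_eq_top_of_unif (hF : IsFF k K) (he : IsOverWith Q P e) (hf : IsResTrivial P Q) {s : K'}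
    (hs : Q.1 s = exp (-1 : ℤ)) (hs' : ∀ R : Place k K', IsOver R P → R ≠ Q → R.1 s = 1) :
    IntermediateField.adjoin K ({s} : Set K') = ⊤ := by
  classical
  set L := IntermediateField.adjoin K ({s} : Set K')
  let sL : L := ⟨s, IntermediateField.mem_adjoin_simple_self K s⟩
  haveI : IsScalarTower k L K' := IsScalarTower.of_algebraMap_eq fun c => by
    rw [IsScalarTower.algebraMap_apply k K L, IsScalarTower.algebraMap_apply k K K']
    rfl
  have hFL : IsFF k L := IsFF.ext hF
  obtain ⟨R, e₁, he₁, hQR⟩ := exists_over hFL Q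
  obtain ⟨P', e₂, he₂, hRP⟩ := exists_over hF R
  have hQP : IsOverWith Q P' (e₂ * e₁) := fun z => by
    rw [IsScalarTower.algebraMap_apply K L K', hQR, hRP, ← pow_mul]
  obtain ⟨rfl, rfl⟩ := over_unique hF he hQP
  have hsR : Q.1 s = R.1 sL ^ e₁ := hQR sL
  have he1 : e₁ = 1 := by
    rcases eq_or_ne (R.1 sL) 0 with h0 | h0
    · rw [h0, zero_pow (by have := over_pos hFL hQR; omega), hs] at hsR
      exact absurd hsR exp_ne_zero
    · rw [hs, ← exp_log h0, ← exp_nsmul, exp_inj, nsmul_eq_mul] at hsR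
      rcases Int.isUnit_iff.mp (IsUnit.of_mul_eq_one (-log (R.1 sL)) (by rw [mul_neg, ← hsR]; ring :
        (e₁ : ℤ) * -log (R.1 sL) = 1)) with h | h <;> omega
  subst he1
  rw [pow_one] at hsR
  have honly : ∀ T, T ∈ ({Q} : Finset (Place k K')) ↔ IsOver T R := fun T => by
    rw [Finset.mem_singleton]
    refine ⟨fun h => h ▸ ⟨1, hQR⟩, fun ⟨e₃, hTR⟩ => ?_⟩
    by_contra hne
    have hTP : IsOverWith T P (e₂ * e₃) := fun z => by
      rw [IsScalarTower.algebraMap_apply K L K', hTR, hRP, ← pow_mul]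
    have h1 := hs' T ⟨_, hTP⟩ hne
    have h2 : T.1 s = R.1 sL ^ e₃ := hTR sL
    rw [h1, ← hsR, hs, ← exp_zero, ← exp_nsmul, exp_inj, nsmul_eq_mul] at h2
    have := over_pos hFL hTR
    omega
  have h := sum_ram_deg hFL R {Q} honly
  rw [Finset.sum_singleton, ramIdx_eq hFL hQR, one_mul] at h
  have h1 := deg_le_deg_over hF (show IsOver R P from ⟨e₂, hRP⟩)
  have h2 := deg_le_of_resTrivial hF he hf
  have h3 := deg_pos hF P
  have h4 : 0 < Module.finrank L K' := Module.finrank_pos
  have h5 : Module.finrank L K' = 1 := by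
    by_contra hne
    have : 2 * R.deg ≤ Module.finrank L K' * R.deg := Nat.mul_le_mul_right _ (by omega)
    omega
  exact IntermediateField.finrank_eq_one_iff_eq_top.mp h5

omit [FiniteDimensional K K'] [IsScalarTower k K K'] in
/-- Integral elements are integral at every place above. -/
theorem val_le_one_of_monic {R : Place k K'} (hR : IsOver R P) {z : K'} {p : Polynomial P.O} (hp : p.Monic)
    (hpz : p.eval₂ ((algebraMap K K').comp P.O.subtype) z = 0) : R.1 z ≤ 1 := by
  obtain ⟨e', he'⟩ := hR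
  by_contra hlt
  rw [not_le] at hlt
  have hz0 : z ≠ 0 := fun e => by rw [e, map_zero] at hlt; exact not_lt_zero hlt
  rw [Polynomial.eval₂_eq_sum_range, Finset.sum_range_succ, hp.coeff_natDegree, map_one, one_mul] at hpz
  have hsum : R.1 (∑ i ∈ Finset.range p.natDegree, ((algebraMap K K').comp P.O.subtype) (p.coeff i) * z ^ i) <
      R.1 (z ^ p.natDegree) := by
    refine R.1.map_sum_lt (by simp [hz0]) fun i hi => ?_
    rw [map_mul, map_pow, map_pow]
    refine lt_of_le_of_lt (mul_le_of_le_one_left' ?_) (pow_lt_pow_right₀ hlt (Finset.mem_range.mp hi))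
    rw [RingHom.comp_apply, he']
    exact pow_le_one' (p.coeff i).2 e'
  have h1 := Valuation.map_add_eq_of_lt_right R.1 hsum
  rw [hpz, map_zero] at h1
  rw [← h1] at hsum
  exact not_lt_zero hsum

/-- No residue extension when the degree does not grow. -/
theorem isResTrivial_of_deg_le (hF : IsFF k K) (he : IsOverWith Q P e) (hd : Q.deg ≤ P.deg) :
    IsResTrivial P Q := by
  classical
  intro z hz
  obtain ⟨a, ha⟩ := exists_resIndep hF P
  let b : Fin (P.deg + 1) → K' := Fin.cons z fun i => algebraMap K K' (a i)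
  have hb : ∀ i, Q.1 (b i) ≤ 1 := fun i => by
    induction i using Fin.cases with
    | zero => exact hz
    | succ i => simp only [b, Fin.cons_succ]; rw [he]; exact pow_le_one' (ha.1 i) e
  obtain ⟨c, hc, hc0⟩ : ∃ c : Fin (P.deg + 1) → k, Q.1 (∑ i, c i • b i) < 1 ∧ c ≠ 0 := by
    by_contra hno
    push Not at hno
    have := ResIndep.card_le (IsFF.ext (K' := K') hF) (Q := Q) (a := b) ⟨hb, hno⟩
    omega
  have hsum : ∀ l : Fin P.deg → k, ∑ i, l i • algebraMap K K' (a i) = algebraMap K K' (∑ i, l i • a i) := fun l => by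
    rw [map_sum]
    refine Finset.sum_congr rfl fun i _ => ?_
    simp only [Algebra.smul_def, map_mul, ← IsScalarTower.algebraMap_apply]
  rw [Fin.sum_univ_succ] at hc
  simp only [b, Fin.cons_zero, Fin.cons_succ, hsum] at hc
  have h0 : c 0 ≠ 0 := fun h => by
    rw [h, zero_smul, zero_add, he] at hc
    have hlt : P.1 (∑ i, c i.succ • a i) < 1 := by
      by_contra hge
      exact hc.not_ge (one_le_pow₀ (not_lt.mp hge))
    have := ha.2 _ hlt
    exact hc0 (funext fun i => by
      induction i using Fin.cases with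
      | zero => exact h
      | succ i => exact congrFun this i)
  refine ⟨-((c 0)⁻¹ • ∑ i, c i.succ • a i), ?_, ?_⟩
  · rw [Valuation.map_neg, Algebra.smul_def, map_mul]
    refine mul_le_one' (P.2.1 _) (P.1.map_sum_le fun i _ => ?_)
    rw [Algebra.smul_def, map_mul]
    exact mul_le_one' (P.2.1 _) (ha.1 i)
  · have e1 : z - algebraMap K K' (-((c 0)⁻¹ • ∑ i, c i.succ • a i)) =
        algebraMap k K' (c 0)⁻¹ * (c 0 • z + algebraMap K K' (∑ i, c i.succ • a i)) := by
      have hu : algebraMap k K' (c 0)⁻¹ * algebraMap k K' (c 0) = 1 := by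
        rw [← map_mul, inv_mul_cancel₀ h0, map_one]
      simp only [Algebra.smul_def, map_neg, map_mul, ← IsScalarTower.algebraMap_apply]
      linear_combination -z * hu
    rw [e1, map_mul, val_algebraMap Q (inv_ne_zero h0), one_mul]
    exact hc

/-- Total ramification: the place is alone and its residue field does not grow. -/
theorem totallyRamified_facts (hF : IsFF k K) (he : IsOverWith Q P e) (hn : e = Module.finrank K K') :
    IsResTrivial P Q ∧ ∀ R : Place k K', IsOver R P → R = Q := by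
  classical
  set Qs := (over_finite (K' := K') hF P).toFinset
  have hQs : ∀ R, R ∈ Qs ↔ IsOver R P := fun R => Set.Finite.mem_toFinset _
  have hQ : Q ∈ Qs := (hQs Q).mpr ⟨e, he⟩
  have h := sum_ram_deg hF P Qs hQs
  rw [← Finset.add_sum_erase _ _ hQ, ramIdx_eq hF he, ← hn] at h
  have h1 := deg_le_deg_over hF (show IsOver Q P from ⟨e, he⟩)
  have he1 := over_pos hF he
  have h2 : e * P.deg ≤ e * Q.deg := Nat.mul_le_mul_left e h1
  refine ⟨isResTrivial_of_deg_le hF he (Nat.le_of_mul_le_mul_left (show e * Q.deg ≤ e * P.deg by omega) he1),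
    fun R hR => ?_⟩
  by_contra hne
  have hR' : R ∈ Qs.erase Q := Finset.mem_erase.mpr ⟨hne, (hQs R).mpr hR⟩
  obtain ⟨e', he'⟩ := id hR
  have h3 : ramIdx R P * R.deg ≤ ∑ T ∈ Qs.erase Q, ramIdx T P * T.deg :=
    Finset.single_le_sum (f := fun T => ramIdx T P * T.deg) (fun _ _ => Nat.zero_le _) hR'
  have h4 : 0 < ramIdx R P * R.deg := by
    rw [ramIdx_eq hF he']
    exact Nat.mul_pos (over_pos hF he') (deg_pos (IsFF.ext (K' := K') hF) R)
  omega

variable {F F' : Type w} [Field F] [Algebra k F] [Field F'] [Algebra k F']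
  {φ : K →ₐ[k] LaurentSeries F} {ψ : K' →ₐ[k] LaurentSeries F'}
  [Algebra.IsSeparable K K']

/-- The different exponent from the minimal polynomial of a uniformiser. -/
theorem ord_deriv_eq_diffExp (hK : IsFunctionField k K) (hg : IsGeometric k K)
    (he : IsOverWith Q P e) (hφ : LocRes.IsExpansionAt P.1 φ) (hψ : LocRes.IsExpansionAt Q.1 ψ)
    {x : K} (hx : LocRes.vDiff φ 1 x ≠ 0) (hx' : LocRes.vDiff ψ 1 (algebraMap K K' x) ≠ 0)
    (hf : IsResTrivial P Q) {s : K'} (hs : Q.1 s = exp (-1 : ℤ))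
    (hs' : ∀ R : Place k K', IsOver R P → R ≠ Q → R.1 s = 1) :
    IntermediateField.adjoin K ({s} : Set K') = ⊤ ∧
      Q.ord (aeval s (derivative (minpoly K s))) = LocRes.diffExp φ ψ e x := by
  classical
  have hgen := adjoin_eq_top_of_unif hK.1 he hf hs hs'
  refine ⟨hgen, ?_⟩
  have hgen' : Algebra.adjoin K {s} = ⊤ := by
    have h := IntermediateField.adjoin_simple_toSubalgebra_of_isAlgebraic (Algebra.IsAlgebraic.isAlgebraic (R := K) s)
    rw [hgen, IntermediateField.top_toSubalgebra] at h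
    exact h.symm
  have hs1 : Q.1 s ≤ 1 := by rw [hs, ← exp_zero, exp_le_exp]; norm_num
  have hsall : ∀ R : Place k K', IsOver R P → R.1 s ≤ 1 := fun R hR => by
    by_cases h : R = Q
    · exact h ▸ hs1
    · exact (hs' R hR h).le
  refine le_antisymm ?_ (diffExp_le_deriv hφ hψ hK hg he hx hx' hf hgen' hsall).1
  letI : Algebra P.O K' := ((algebraMap K K').comp P.O.subtype).toAlgebra
  haveI : IsScalarTower P.O K K' := IsScalarTower.of_algebraMap_eq fun _ => rfl
  obtain ⟨p, hp, hps⟩ := exists_monic_of_le_one hK.1 P hsall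
  have hint : IsIntegral P.O s := ⟨p, hp, hps⟩
  set A := Algebra.adjoin P.O {s}
  have hsA : s ∈ A := Algebra.self_mem_adjoin_singleton _ _
  set Qs := (over_finite (K' := K') hK.1 P).toFinset
  have hQs : ∀ R, R ∈ Qs ↔ IsOver R P := fun R => Set.Finite.mem_toFinset _
  have hQ : Q ∈ Qs := (hQs Q).mpr ⟨e, he⟩
  -- small elements lie in `A`
  let pb := (Algebra.adjoin.powerBasis (Algebra.IsIntegral.isIntegral (R := K) s)).map
    ((Subalgebra.equivOfEq _ _ hgen').trans Subalgebra.topEquiv)
  have pbgen : pb.gen = s := by simp [pb]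
  obtain ⟨M, hM⟩ := exists_coord_bound hK.1 P Qs hQs pb.basis
  have hsmall : ∀ z : K', (∀ R ∈ Qs, R.1 z ≤ exp (-(M : ℤ))) → z ∈ A := fun z hz => by
    rw [← pb.basis.sum_repr z]
    refine Subalgebra.sum_mem _ fun i _ => ?_
    rw [pb.basis_eq_pow, pbgen, Algebra.smul_def]
    exact Subalgebra.mul_mem _ (Subalgebra.algebraMap_mem A ⟨_, hM z hz i⟩) (Subalgebra.pow_mem _ hsA _)
  -- an element of `A` equal to `1` at `Q` and small elsewhere
  have hpoly : ∀ R ∈ Qs.erase Q, ∃ q : k[X], R.1 (aeval s q) < 1 ∧ Q.1 (aeval s q) = 1 := fun R hR => by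
    obtain ⟨hne, hR⟩ := Finset.mem_erase.mp hR
    have hRs := hs' R ((hQs R).mp hR) hne
    haveI := residue_finite (IsFF.ext (K' := K') hK.1) R
    set a : Res R := IsLocalRing.residue R.O ⟨s, hRs.le⟩
    have ha : a ≠ 0 := fun h => by
      have h' : R.1 s < 1 := (residue_eq_zero R ⟨s, hRs.le⟩).mp h
      rw [hRs] at h'; exact lt_irrefl _ h'
    set q := minpoly k a
    have hq : aeval a q = 0 := minpoly.aeval _ _
    have hcoe : ∀ q : k[X], R.1 (aeval s q) ≤ 1 ∧
        ∀ h : R.1 (aeval s q) ≤ 1, IsLocalRing.residue R.O ⟨aeval s q, h⟩ = aeval a q := by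
      intro q
      induction q using Polynomial.induction_on with
      | C c =>
        refine ⟨by rw [aeval_C]; exact R.2.1 c, fun h => ?_⟩
        refine (congrArg (IsLocalRing.residue R.O) (Subtype.ext ?_)).trans
          ((residue_algebraMap R c).symm.trans (aeval_C a c).symm)
        show aeval s (C c) = algebraMap k K' c
        rw [aeval_C]
      | add q₁ q₂ h1 h2 =>
        refine ⟨by rw [map_add]; exact (R.1.map_add _ _).trans (max_le h1.1 h2.1), fun h => ?_⟩
        rw [map_add (aeval a), ← h1.2 h1.1, ← h2.2 h2.1, ← map_add]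
        congr 1
        exact Subtype.ext (map_add (aeval s) q₁ q₂)
      | monomial n c ih =>
        have e : (C c * X ^ (n + 1) : k[X]) = C c * X ^ n * X := by rw [pow_succ, mul_assoc]
        rw [e]
        refine ⟨by rw [map_mul (aeval s), aeval_X, map_mul]; exact mul_le_one' ih.1 hRs.le, fun h => ?_⟩
        rw [map_mul (aeval a), aeval_X, ← ih.2 ih.1, ← map_mul]
        congr 1
        refine Subtype.ext ?_
        show aeval s (C c * X ^ n * X) = aeval s (C c * X ^ n) * s
        rw [map_mul (aeval s), aeval_X]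
    refine ⟨q, (residue_eq_zero R ⟨_, (hcoe q).1⟩).mp (((hcoe q).2 (hcoe q).1).trans hq), ?_⟩
    have hq0 : q.coeff 0 ≠ 0 := minpoly.coeff_zero_ne_zero (@IsIntegral.of_finite k (Res R) _ _ _ (residue_finite (IsFF.ext (K' := K') hK.1) R) a) ha
    rw [← X_mul_divX_add q, map_add, map_mul, aeval_X, aeval_C]
    have h1 : Q.1 (s * aeval s q.divX) < 1 := by
      rw [map_mul]
      refine lt_of_le_of_lt (mul_le_of_le_one_right' ?_) (by rw [hs, ← exp_zero, exp_lt_exp]; norm_num)
      rw [aeval_eq_sum_range]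
      refine Q.1.map_sum_le fun i _ => ?_
      rw [Algebra.smul_def, map_mul, map_pow]
      exact mul_le_one' (Q.2.1 _) (pow_le_one' hs1 i)
    rw [Valuation.map_add_eq_of_lt_right _ (by rwa [val_algebraMap Q hq0])]
    exact val_algebraMap Q hq0
  choose! q hq1 hq2 using hpoly
  have hqA : ∀ r : k[X], aeval s r ∈ A := fun r => by
    rw [aeval_eq_sum_range]
    refine Subalgebra.sum_mem _ fun i _ => ?_
    rw [Algebra.smul_def, IsScalarTower.algebraMap_apply k K K']
    exact Subalgebra.mul_mem _ (Subalgebra.algebraMap_mem A ⟨_, P.2.1 _⟩) (Subalgebra.pow_mem _ hsA _)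
  set h₀ := ∏ R ∈ Qs.erase Q, aeval s (q R)
  have hh₀A : h₀ ∈ A := Subalgebra.prod_mem _ fun R _ => hqA _
  have hh₀Q : Q.1 h₀ = 1 := by rw [map_prod]; exact Finset.prod_eq_one fun R hR => hq2 R hR
  have hh₀R : ∀ R ∈ Qs.erase Q, R.1 h₀ ≤ exp (-1 : ℤ) := fun R hR => by
    have hRP := (hQs R).mp (Finset.mem_of_mem_erase hR)
    rw [map_prod, ← Finset.mul_prod_erase _ _ hR]
    refine (mul_le_of_le_one_right' (Finset.prod_le_one' fun T hT => ?_)).trans
      ((lt_exp_iff_le_exp_pred R _ 0).mp (by rw [exp_zero]; exact hq1 R hR))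
    rw [aeval_eq_sum_range]
    refine R.1.map_sum_le fun i _ => ?_
    rw [Algebra.smul_def, map_mul, map_pow]
    exact mul_le_one' (R.2.1 _) (pow_le_one' (hsall R hRP) i)
  set h := h₀ ^ M
  have hhA : h ∈ A := Subalgebra.pow_mem _ hh₀A _
  have hhQ : Q.1 h = 1 := by rw [map_pow, hh₀Q, one_pow]
  -- digits at `Q`
  have hdig : ∀ (N : ℕ) (z : K'), Q.1 z ≤ 1 → ∃ a ∈ A, Q.1 (z - a) ≤ exp (-(N : ℤ)) := by
    intro N
    induction N with
    | zero => intro z hz; exact ⟨0, Subalgebra.zero_mem _, by simpa using hz⟩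
    | succ N ih =>
      intro z hz
      obtain ⟨c, hc, hcz⟩ := hf z hz
      obtain ⟨a, haA, ha⟩ := ih ((z - algebraMap K K' c) / s) (by
        rw [map_div₀, hs, div_le_one₀ (zero_lt_iff.mpr exp_ne_zero)]
        exact ((lt_exp_iff_le_exp_pred Q _ 0).mp (by rwa [exp_zero])).trans (le_of_eq (by norm_num)))
      have hs0 : s ≠ 0 := fun h0 => by rw [h0, map_zero] at hs; exact exp_ne_zero hs.symm
      refine ⟨algebraMap K K' c + s * a, Subalgebra.add_mem _ (Subalgebra.algebraMap_mem A ⟨c, hc⟩)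
        (Subalgebra.mul_mem _ hsA haA), ?_⟩
      rw [show z - (algebraMap K K' c + s * a) = s * ((z - algebraMap K K' c) / s - a) by
        field_simp; ring, map_mul, hs]
      refine (mul_le_mul' le_rfl ha).trans ?_
      rw [← exp_add, exp_le_exp]; push_cast; omega
  have hcond : ∀ z : K', (∀ R : Place k K', IsOver R P → R.1 z ≤ 1) → h * z ∈ A := fun z hz => by
    obtain ⟨a, haA, ha⟩ := hdig M z (hz Q ⟨e, he⟩)
    have haR : ∀ R : Place k K', IsOver R P → R.1 a ≤ 1 := fun R hR => by
      clear ha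
      obtain ⟨e', he'⟩ := id hR
      induction haA using Algebra.adjoin_induction with
      | mem b hb => rw [Set.mem_singleton_iff.mp hb]; exact hsall R hR
      | algebraMap c =>
        show R.1 (algebraMap K K' c.1) ≤ 1
        rw [he']; exact pow_le_one' c.2 e'
      | add b c _ _ hb hc => exact (R.1.map_add _ _).trans (max_le hb hc)
      | mul b c _ _ hb hc => rw [map_mul]; exact mul_le_one' hb hc
    have hrest : h * (z - a) ∈ A := hsmall _ fun R hR => by
      rw [map_mul]
      by_cases hRQ : R = Q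
      · subst hRQ; rw [hhQ, one_mul]; exact ha
      · refine (mul_le_of_le_one_right' ((R.1.map_sub _ _).trans
          (max_le (hz R ((hQs R).mp hR)) (haR R ((hQs R).mp hR))))).trans ?_
        rw [map_pow]
        refine (pow_le_pow_left' (hh₀R R (Finset.mem_erase.mpr ⟨hRQ, hR⟩)) M).trans ?_
        rw [← exp_nsmul, exp_le_exp, nsmul_eq_mul]; omega
    rw [show h * z = h * a + h * (z - a) by ring]
    exact Subalgebra.add_mem _ (Subalgebra.mul_mem _ hhA haA) hrest
  set g' := aeval s (derivative (minpoly K s)) with hg'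
  have hg0 : g' ≠ 0 := (Algebra.IsSeparable.isSeparable K s).aeval_derivative_ne_zero (minpoly.aeval _ _)
  have hdual : IsDual P (g'⁻¹ * h) := fun z hz => by
    have hmem : g'⁻¹ ∈ (Algebra.traceForm K K').dualSubmodule (Subalgebra.toSubmodule A) := by
      rw [traceForm_dualSubmodule_adjoin P.O K hgen' hint, ← hg']
      exact ⟨1, Subalgebra.one_mem A, by simp⟩
    have h1 := hmem (h * z) (hcond z hz)
    rw [Submodule.mem_one] at h1
    obtain ⟨c, hc⟩ := h1
    rw [mul_assoc, ← Algebra.traceForm_apply, ← hc]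
    exact c.2
  have hb := dual_le hφ hψ hK hg he hx hx' hf hdual
  rw [map_mul, map_inv₀, hhQ, mul_one, val_eq_exp Q hg0, ← exp_neg, neg_neg, exp_le_exp] at hb
  exact hb

end Groth.Agent.FFLib
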