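import Groth.Agent.FFLib.Ram.ConstExt
import Mathlib.RingTheory.Trace.Basic
import Mathlib.RingTheory.Discriminant
import Mathlib.FieldTheory.RatFunc.AsPolynomial
import Mathlib.FieldTheory.IsAlgClosed.AlgebraicClosure
import Mathlib.RingTheory.Polynomial.UniqueFactorization

/-! A bound, uniform in the constant extension, for coordinates of integral elements. -/

set_option linter.unusedSectionVars false
set_option linter.style.haveILetI false

namespace Groth.Agent.FFLib

open FunFld WithZero Polynomial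
open scoped IntermediateField TensorProduct

theorem exists_eq_aeval_of_integral {F L : Type*} [Field F] [Field L] [Algebra F L] {t : L}
    (ht : Transcendental F t) {N D : F[X]} (_hD : D ≠ 0) {p : Polynomial F[X]} (hp : p.Monic)
    (hpz : p.eval₂ (aeval t : F[X] →ₐ[F] L).toRingHom (aeval t N / aeval t D) = 0) :
    ∃ G : F[X], aeval t N / aeval t D = aeval t G := by
  let φ : RatFunc F →ₐ[F] L := (F⟮t⟯.val).comp (RatFunc.algEquivOfTranscendental t ht).toAlgHom
  have hφ : ∀ g : F[X], φ (algebraMap F[X] (RatFunc F) g) = aeval t g := fun g => by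
    show ((RatFunc.algEquivOfTranscendental t ht (algebraMap F[X] (RatFunc F) g) : F⟮t⟯) : L) = _
    rw [RatFunc.algEquivOfTranscendental_algebraMap]
    exact (aeval_algHom_apply F⟮t⟯.val _ g).symm
  set r := algebraMap F[X] (RatFunc F) N / algebraMap F[X] (RatFunc F) D
  have hr : φ r = aeval t N / aeval t D := by rw [map_div₀, hφ, hφ]
  have hint : IsIntegral F[X] r := by
    refine ⟨p, hp, φ.toRingHom.injective ?_⟩
    rw [map_zero, Polynomial.hom_eval₂, show φ.toRingHom.comp (algebraMap F[X] (RatFunc F)) =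
      (aeval t : F[X] →ₐ[F] L).toRingHom from RingHom.ext hφ]
    show p.eval₂ _ (φ r) = 0
    rw [hr]; exact hpz
  obtain ⟨G, hG⟩ := IsIntegrallyClosed.isIntegral_iff.mp hint
  exact ⟨G, by rw [← hr, ← hG, hφ]⟩

variable {k k' K K' : Type*} [Field k] [Field k'] [Field K] [Field K']
  [Algebra k k'] [FiniteDimensional k k'] [Algebra k K] [Algebra K K'] [Algebra k' K'] [Algebra k K']
  [IsScalarTower k k' K'] [IsScalarTower k K K']

/-- A fraction with unit denominator. -/
theorem exists_frac_unit {x : K} (hx : Transcendental k x) (P0 : Place k k⟮x⟯)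
    (hx0 : P0.1 (IntermediateField.AdjoinSimple.gen k x) ≤ 1) (r : k⟮x⟯) :
    ∃ a b : k[X], aeval (IntermediateField.AdjoinSimple.gen k x) b ≠ 0 ∧
      r = aeval (IntermediateField.AdjoinSimple.gen k x) a / aeval (IntermediateField.AdjoinSimple.gen k x) b ∧
      (P0.1 r ≤ 1 → P0.1 (aeval (IntermediateField.AdjoinSimple.gen k x) b) = 1) := by
  set x₀ := IntermediateField.AdjoinSimple.gen k x
  have hx₀ : Transcendental k x₀ := fun h => hx (h.algHom k⟮x⟯.val)
  set u := (RatFunc.algEquivOfTranscendental x hx).symm r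
  have hr : r = aeval x₀ u.num / aeval x₀ u.denom := by
    have h1 : ∀ g : k[X], RatFunc.algEquivOfTranscendental x hx (algebraMap k[X] (RatFunc k) g) = aeval x₀ g :=
      fun g => RatFunc.algEquivOfTranscendental_algebraMap x hx g
    rw [← h1, ← h1, ← map_div₀, RatFunc.num_div_denom]
    exact (AlgEquiv.apply_symm_apply _ r).symm
  have hden : aeval x₀ u.denom ≠ 0 := fun h => hx₀ ⟨u.denom, u.denom_ne_zero, h⟩
  have hle : ∀ g : k[X], P0.1 (aeval x₀ g) ≤ 1 := fun g => val_aeval_le_one P0.2.1 hx0 g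
  refine ⟨u.num, u.denom, hden, hr, fun h1 => le_antisymm (hle _) (not_lt.mp fun hlt => ?_)⟩
  obtain ⟨a, b, hab⟩ := RatFunc.isCoprime_num_denom u
  have e := congrArg (aeval x₀) hab
  rw [map_add, map_mul, map_mul, map_one, show aeval x₀ u.num = r * aeval x₀ u.denom by
    rw [hr, div_mul_cancel₀ _ hden], ← mul_assoc] at e
  have : P0.1 1 < 1 := by
    rw [← e]
    refine (P0.1.map_add _ _).trans_lt (max_lt ?_ ?_)
    · rw [map_mul, map_mul]
      exact (mul_le_of_le_one_left' (mul_le_one' (hle a) h1)).trans_lt hlt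
    · rw [map_mul]; exact (mul_le_of_le_one_left' (hle b)).trans_lt hlt
  rw [map_one] at this
  exact lt_irrefl _ this

/-- Rational places are nonsingular. -/
theorem rational_coords (h : Function.Bijective (Algebra.TensorProduct.productMap
    (IsScalarTower.toAlgHom k k' K') (IsScalarTower.toAlgHom k K K')))
    {x : K} (hx : Transcendental k x) (P0 : Place k k⟮x⟯)
    (hx0 : P0.1 (IntermediateField.AdjoinSimple.gen k x) ≤ 1) {n : Type*} [Fintype n] (v : Module.Basis n k k')
    (r : n → k⟮x⟯) {p : Polynomial P0.O} (hp : p.Monic)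
    (hpz : p.eval₂ ((algebraMap K K').comp ((algebraMap k⟮x⟯ K).comp P0.O.subtype))
      (∑ l, algebraMap K K' (r l : K) * algebraMap k' K' (v l)) = 0) :
    ∀ l, P0.1 (r l) ≤ 1 := by
  classical
  obtain ⟨vK, hvK⟩ := exists_const_basis (K := K) h v
  set x₀ := IntermediateField.AdjoinSimple.gen k x
  have hx₀ : Transcendental k x₀ := fun h => hx (h.algHom k⟮x⟯.val)
  set x' : K' := algebraMap K K' x
  have htr : Transcendental k' x' := by
    intro halg
    have h1 : Transcendental k x' := fun h => hx ((isAlgebraic_algHom_iff (IsScalarTower.toAlgHom k K K')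
      (algebraMap K K').injective).mp h)
    exact h1 (halg.restrictScalars k)
  set y : K' := ∑ l, algebraMap K K' (r l : K) * algebraMap k' K' (v l)
  have hev : ∀ g : k[X], algebraMap K K' ((aeval x₀ g : k⟮x⟯) : K) = aeval x' (g.map (algebraMap k k')) := fun g => by
    rw [aeval_map_algebraMap, show ((aeval x₀ g : k⟮x⟯) : K) = aeval x g from (aeval_algHom_apply k⟮x⟯.val x₀ g).symm]
    exact (aeval_algHom_apply (IsScalarTower.toAlgHom k K K') x g).symm
  choose a b hb hab hb1 using fun i => exists_frac_unit hx P0 hx0 (p.coeff i : k⟮x⟯)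
  choose α β hβ hαβ _ using fun l => exists_frac_unit hx P0 hx0 (r l)
  rw [show IntermediateField.AdjoinSimple.gen k x = x₀ from rfl] at hb hab hb1 hβ hαβ
  set d := p.natDegree
  let S : k[X] := ∏ i ∈ Finset.range d, b i
  have hS : P0.1 (aeval x₀ S) = 1 := by
    rw [map_prod (aeval x₀ : k[X] →ₐ[k] k⟮x⟯), map_prod]
    exact Finset.prod_eq_one fun i _ => hb1 i (p.coeff i).2
  have hS0 : aeval x₀ S ≠ 0 := fun e => by rw [e, map_zero] at hS; exact zero_ne_one hS
  set s : K' := aeval x' (S.map (algebraMap k k'))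
  let c : ℕ → k[X] := fun i => a i * (∏ j ∈ (Finset.range d).erase i, b j) * S ^ (d - i - 1)
  have hc : ∀ i < d, aeval x₀ (c i) = (p.coeff i : k⟮x⟯) * aeval x₀ S ^ (d - i) := fun i hi => by
    have hi' : i ∈ Finset.range d := Finset.mem_range.mpr hi
    obtain ⟨m, hm⟩ : ∃ m, d - i = m + 1 := ⟨d - i - 1, by omega⟩
    simp only [c, hm, Nat.add_sub_cancel, map_mul, map_pow, pow_succ']
    rw [show aeval x₀ S = aeval x₀ (b i) * aeval x₀ (∏ j ∈ (Finset.range d).erase i, b j) by
      rw [← map_mul, Finset.mul_prod_erase _ _ hi'], hab i]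
    field_simp [hb i]
  let q : Polynomial k'[X] := X ^ d + ∑ i ∈ Finset.range d, C ((c i).map (algebraMap k k')) * X ^ i
  have hq : q.Monic := by
    refine monic_X_pow_add ?_
    refine (degree_sum_le _ _).trans_lt ((Finset.sup_lt_iff (WithBot.bot_lt_coe d)).mpr fun i hi => ?_)
    exact (degree_C_mul_X_pow_le _ _).trans_lt (WithBot.coe_lt_coe.mpr (Finset.mem_range.mp hi))
  let N : k'[X] := (S.map (algebraMap k k')) *
    ∑ l, C (v l) * ((α l * ∏ m ∈ Finset.univ.erase l, β m).map (algebraMap k k'))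
  let D : k'[X] := (∏ m, β m).map (algebraMap k k')
  have hD : D ≠ 0 := by
    simp only [D, Ne, Polynomial.map_eq_zero_iff (algebraMap k k').injective, Finset.prod_eq_zero_iff, not_exists, not_and]
    intro m _ e
    exact hβ m (by rw [e, map_zero])
  have hD0 : aeval x' D ≠ 0 := fun e => htr ⟨D, hD, e⟩
  have hND : aeval x' N / aeval x' D = s * y := by
    rw [div_eq_iff hD0]
    simp only [N, y, map_mul, map_sum, Finset.mul_sum, Finset.sum_mul, aeval_C]
    refine Finset.sum_congr rfl fun l _ => ?_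
    simp only [D]
    rw [show s = algebraMap K K' ((aeval x₀ S : k⟮x⟯) : K) from (hev S).symm,
      ← hev (α l * ∏ m ∈ Finset.univ.erase l, β m), ← hev (∏ m, β m), map_mul (aeval x₀ : k[X] →ₐ[k] k⟮x⟯), ← Finset.mul_prod_erase _ _ (Finset.mem_univ l),
      map_mul (aeval x₀ : k[X] →ₐ[k] k⟮x⟯), hαβ l]
    push_cast
    simp only [map_div₀, ← hev S]
    have : (algebraMap K K') ((aeval x₀ (β l) : k⟮x⟯) : K) ≠ 0 :=
      (_root_.map_ne_zero _).mpr (fun e => hβ l (Subtype.ext e))
    field_simp
  have hqz : q.eval₂ (aeval x' : k'[X] →ₐ[k'] K').toRingHom (aeval x' N / aeval x' D) = 0 := by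
    rw [hND]
    simp only [q, eval₂_add, eval₂_X_pow, eval₂_finsetSum, eval₂_mul, eval₂_C]
    rw [Finset.sum_congr rfl fun i (hi : i ∈ Finset.range d) => show
      (aeval x' : k'[X] →ₐ[k'] K').toRingHom ((c i).map (algebraMap k k')) * (s * y) ^ i =
        s ^ d * (((algebraMap K K').comp ((algebraMap k⟮x⟯ K).comp P0.O.subtype)) (p.coeff i) * y ^ i) by
      show aeval x' ((c i).map (algebraMap k k')) * _ = _
      rw [← hev, hc i (Finset.mem_range.mp hi), IntermediateField.coe_mul, IntermediateField.coe_pow,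
        map_mul, map_pow, hev S, mul_pow]
      obtain ⟨m, hm⟩ := Nat.exists_eq_add_of_le (Finset.mem_range.mp hi).le
      rw [hm, Nat.add_sub_cancel_left, pow_add]
      simp only [s, RingHom.comp_apply]
      show _ = _ * (algebraMap K K' ((p.coeff i : k⟮x⟯) : K) * _)
      ring]
    rw [← Finset.mul_sum, mul_pow, ← mul_add, add_comm]
    rw [eval₂_eq_sum_range, Finset.sum_range_succ, hp.coeff_natDegree, map_one, one_mul] at hpz
    rw [hpz, mul_zero]
  obtain ⟨G, hG⟩ := exists_eq_aeval_of_integral htr hD hq hqz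
  rw [hND] at hG
  let g : n → k[X] := fun l => ∑ i ∈ Finset.range (G.natDegree + 1), monomial i (v.repr (G.coeff i) l)
  have hgG : aeval x' G = ∑ l, algebraMap K K' ((aeval x₀ (g l) : k⟮x⟯) : K) * algebraMap k' K' (v l) := by
    rw [Finset.sum_congr rfl fun l (_ : l ∈ Finset.univ) => congrArg (· * algebraMap k' K' (v l)) (hev (g l))]
    simp only [g, Polynomial.map_sum, map_monomial, map_sum, aeval_monomial, Finset.sum_mul]
    rw [Finset.sum_comm, aeval_eq_sum_range]
    refine Finset.sum_congr rfl fun i _ => ?_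
    rw [Algebra.smul_def]
    conv_lhs => rw [← v.sum_repr (G.coeff i), map_sum, Finset.sum_mul]
    refine Finset.sum_congr rfl fun l _ => ?_
    rw [Algebra.smul_def (v.repr (G.coeff i) l) (v l), map_mul]; ring
  intro l
  have hl : aeval x₀ S * r l = aeval x₀ (g l) := by
    have h1 : (∑ l, ((aeval x₀ S * r l : k⟮x⟯) : K) • vK l) = ∑ l, ((aeval x₀ (g l) : k⟮x⟯) : K) • vK l := by
      simp only [Algebra.smul_def, hvK, IntermediateField.coe_mul, map_mul]
      rw [← hgG, ← hG, hev S, Finset.mul_sum]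
      exact Finset.sum_congr rfl fun l _ => mul_assoc _ _ _
    have h2 := congrArg (fun u => vK.repr u l) h1
    simp only [Module.Basis.repr_sum_self] at h2
    exact Subtype.ext h2
  have := congrArg P0.1 hl
  rw [map_mul, hS, one_mul] at this
  rw [this]
  exact val_aeval_le_one P0.2.1 hx0 _

/-- Coordinates of integral elements are bounded by the discriminant. -/
theorem coords_le (h : Function.Bijective (Algebra.TensorProduct.productMap
    (IsScalarTower.toAlgHom k k' K') (IsScalarTower.toAlgHom k K K')))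
    {x : K} (hx : Transcendental k x) [FiniteDimensional k⟮x⟯ K] [Algebra.IsSeparable k⟮x⟯ K]
    (hF0 : IsFF k k⟮x⟯) (P : Place k K) (P0 : Place k k⟮x⟯)
    (hx0 : P0.1 (IntermediateField.AdjoinSimple.gen k x) ≤ 1) (hP : IsOver P P0)
    {ι : Type*} [Fintype ι] [DecidableEq ι] (b : Module.Basis ι k⟮x⟯ K)
    (hb : ∀ i, ∀ Q : Place k K, IsOver Q P0 → Q.1 (b i) ≤ 1)
    {n : Type*} [Fintype n] (v : Module.Basis n k k') (vK : Module.Basis n K K')
    (hvK : ∀ l, vK l = algebraMap k' K' (v l)) (z : K') (hz : ∀ R : Place k K', IsOver R P → R.1 z ≤ 1) :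
    ∀ l, P.1 (vK.repr z l) * P.1 (((Algebra.traceMatrix k⟮x⟯ b).det : k⟮x⟯) : K) ≤ 1 := by
  classical
  haveI : FiniteDimensional K K' := Module.Finite.of_basis vK
  haveI : IsScalarTower k k⟮x⟯ K' := IsScalarTower.of_algebraMap_eq fun c =>
    IsScalarTower.algebraMap_apply k K K' c
  haveI : FiniteDimensional k⟮x⟯ K' := FiniteDimensional.trans k⟮x⟯ K K'
  set Qs := (over_finite (K' := K) hF0 P0).toFinset
  have hQs : ∀ Q, Q ∈ Qs ↔ IsOver Q P0 := fun Q => Set.Finite.mem_toFinset _
  set TT := (over_finite (K' := K') hF0 P0).toFinset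
  obtain ⟨u, hu⟩ := exists_approx Qs (fun Q => if Q = P then 1 else 0) (fun _ => 1)
  have huP : P.1 u = 1 := by
    have := (le_exp_neg_one_iff P).mp (hu P ((hQs P).mpr hP))
    rw [if_pos rfl] at this
    rw [← sub_add_cancel u 1, Valuation.map_add_eq_of_lt_right _ (by rwa [map_one]), map_one]
  set m := TT.sup fun T => (-T.ord z).toNat
  set w := z * algebraMap K K' (u ^ m)
  have hF : IsFF k K := IsFF.ext (K' := K) hF0
  have hw : ∀ T : Place k K', IsOver T P0 → T.1 w ≤ 1 := by
    intro T hT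
    obtain ⟨Q, eQ, heQ1, heQ⟩ := exists_over (K' := K') hF T
    have hQ0 : IsOver Q P0 := by
      obtain ⟨P', e', -, he'⟩ := exists_over (K' := K) hF0 Q
      obtain ⟨e₀, he₀⟩ := hT
      have h1 : IsOverWith T P' (e' * eQ) := fun a => by
        show T.1 (algebraMap K K' (algebraMap k⟮x⟯ K a)) = _
        rw [heQ, he', ← pow_mul]
      exact (over_unique hF0 h1 he₀).1 ▸ ⟨e', he'⟩
    rw [map_mul, map_pow (algebraMap K K'), map_pow, heQ]
    by_cases hQP : Q = P
    · subst hQP; rw [huP, one_pow, one_pow, mul_one]; exact hz T ⟨eQ, heQ⟩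
    · have huQ : Q.1 u ≤ exp (-1 : ℤ) := by
        have := hu Q ((hQs Q).mpr hQ0)
        rwa [if_neg hQP, sub_zero] at this
      rcases eq_or_ne z 0 with e | e
      · simp [e]
      refine (mul_le_mul' (le_of_eq (val_eq_exp T e)) (pow_le_pow_left' (pow_le_pow_left' huQ eQ) m)).trans ?_
      rw [← exp_nsmul, ← exp_nsmul, ← exp_add, ← exp_zero, exp_le_exp, nsmul_eq_mul, nsmul_eq_mul]
      have h1 : (-T.ord z).toNat ≤ m := Finset.le_sup (f := fun T : Place k K' => (-T.ord z).toNat)
        (show T ∈ TT from (Set.Finite.mem_toFinset _).mpr hT)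
      have h2 : (m : ℤ) * 1 ≤ (m : ℤ) * eQ := mul_le_mul_of_nonneg_left (by exact_mod_cast heQ1) (by positivity)
      have h3 := Int.self_le_toNat (-(T.ord z))
      have h4 : (((-(T.ord z)).toNat : ℕ) : ℤ) ≤ (m : ℤ) := by exact_mod_cast h1
      linarith
  set c : n → K := fun l => vK.repr w l
  have hwsum : w = ∑ l, algebraMap K K' (c l) * algebraMap k' K' (v l) := by
    conv_lhs => rw [← vK.sum_repr w]
    exact Finset.sum_congr rfl fun l _ => by rw [Algebra.smul_def, hvK]
  let L := AlgebraicClosure K'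
  letI : Algebra P0.O K' := ((algebraMap k⟮x⟯ K').comp P0.O.subtype).toAlgebra
  haveI : IsScalarTower P0.O k⟮x⟯ L := IsScalarTower.of_algebraMap_eq fun _ => rfl
  let e := AlgEquiv.ofBijective _ h
  let σ' : (K →ₐ[k⟮x⟯] L) → (K' →ₐ[k] L) := fun σ =>
    (Algebra.TensorProduct.productMap ((IsScalarTower.toAlgHom k K' L).comp (IsScalarTower.toAlgHom k k' K'))
      (σ.restrictScalars k)).comp e.symm.toAlgHom
  have hσ : ∀ σ (a : K) (l : k'), σ' σ (algebraMap K K' a * algebraMap k' K' l) =
      σ a * algebraMap K' L (algebraMap k' K' l) := fun σ a l => by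
    show Algebra.TensorProduct.productMap _ _ (e.symm _) = _
    rw [show e.symm (algebraMap K K' a * algebraMap k' K' l) = l ⊗ₜ a from (AlgEquiv.symm_apply_eq e).mpr (by
      show _ = Algebra.TensorProduct.productMap _ _ (l ⊗ₜ a)
      simp [mul_comm])]
    simp [mul_comm]
  have key : ∀ i l, P0.1 (Algebra.trace k⟮x⟯ K (c l * b i)) ≤ 1 := by
    intro i
    set zi := w * algebraMap K K' (b i)
    have hzi : IsIntegral P0.O zi := by
      obtain ⟨p, hp, hpz⟩ := exists_monic_of_le_one hF0 P0 (z := zi) fun T hT => by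
        obtain ⟨Q, eQ, -, heQ⟩ := exists_over (K' := K') hF T
        rw [map_mul, heQ]
        refine mul_le_one' (hw T hT) (pow_le_one' (hb i Q ?_) _)
        obtain ⟨P', e', -, he'⟩ := exists_over (K' := K) hF0 Q
        obtain ⟨e₀, he₀⟩ := hT
        have h1 : IsOverWith T P' (e' * eQ) := fun a => by
          show T.1 (algebraMap K K' (algebraMap k⟮x⟯ K a)) = _
          rw [heQ, he', ← pow_mul]
        exact (over_unique hF0 h1 he₀).1 ▸ ⟨e', he'⟩
      exact ⟨p, hp, hpz⟩
    set y : K' := ∑ l, algebraMap K K' ((Algebra.trace k⟮x⟯ K (c l * b i) : k⟮x⟯) : K) * algebraMap k' K' (v l)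
    have hy : algebraMap K' L y = ∑ σ : K →ₐ[k⟮x⟯] L, σ' σ zi := by
      have hziL : ∀ σ : K →ₐ[k⟮x⟯] L, σ' σ zi = ∑ l, σ (c l * b i) * algebraMap K' L (algebraMap k' K' (v l)) := fun σ => by
        rw [show zi = ∑ l, algebraMap K K' (c l * b i) * algebraMap k' K' (v l) by
          simp only [zi, hwsum, Finset.sum_mul, map_mul]
          exact Finset.sum_congr rfl fun l _ => by ring, map_sum]
        exact Finset.sum_congr rfl fun l _ => hσ σ _ _
      simp only [hziL]
      rw [Finset.sum_comm, map_sum]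
      refine Finset.sum_congr rfl fun l _ => ?_
      rw [map_mul, ← Finset.sum_mul]
      congr 1
      exact trace_eq_sum_embeddings (K := k⟮x⟯) (L := K) L (x := c l * b i)
    have hyint : IsIntegral P0.O y := by
      refine (isIntegral_algHom_iff (IsScalarTower.toAlgHom P0.O K' L) (algebraMap K' L).injective).mp ?_
      show IsIntegral P0.O (algebraMap K' L y)
      rw [hy]
      refine IsIntegral.sum _ fun σ _ => ?_
      have hc : ∀ a : P0.O, σ' σ (algebraMap P0.O K' a) = algebraMap P0.O L a := fun a => by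
        have := hσ σ ((a : k⟮x⟯) : K) 1
        rw [map_one, mul_one, map_one, mul_one] at this
        exact this.trans (σ.commutes (a : k⟮x⟯))
      exact hzi.map (R := P0.O) ({ (σ' σ).toRingHom with commutes' := hc } : K' →ₐ[P0.O] L)
    obtain ⟨p, hp, hpz⟩ := hyint
    exact rational_coords h hx P0 hx0 v (fun l => Algebra.trace k⟮x⟯ K (c l * b i)) hp hpz
  intro l
  obtain ⟨e0, he0⟩ := hP
  set G := Algebra.traceMatrix k⟮x⟯ b
  let cl : ι → k⟮x⟯ := fun i => b.repr (c l) i
  have hGe : ∀ i j, P0.1 (G i j) ≤ 1 := fun i j =>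
    trace_le_one hF0 P0 (z := b i * b j) fun Q hQ => by rw [map_mul]; exact mul_le_one' (hb i Q hQ) (hb j Q hQ)
  have hv : G.mulVec cl = fun i => Algebra.trace k⟮x⟯ K (c l * b i) := by
    funext i
    show ∑ j, G i j * cl j = _
    conv_rhs => rw [← b.sum_repr (c l), Finset.sum_mul, map_sum]
    refine Finset.sum_congr rfl fun j _ => ?_
    show Algebra.traceMatrix k⟮x⟯ b i j * _ = _
    rw [smul_mul_assoc, map_smul, smul_eq_mul, Algebra.traceMatrix_apply, Algebra.traceForm_apply,
      mul_comm, mul_comm (b j)]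
  have hdc : G.det • cl = G.adjugate.mulVec (fun i => Algebra.trace k⟮x⟯ K (c l * b i)) := by
    rw [← hv, Matrix.mulVec_mulVec, Matrix.adjugate_mul, Matrix.smul_mulVec, Matrix.one_mulVec]
  let GO : Matrix ι ι P0.O := Matrix.of fun i j => (⟨G i j, hGe i j⟩ : P0.O)
  have hadj : ∀ i j, P0.1 (G.adjugate i j) ≤ 1 := fun i j => by
    rw [show G = GO.map P0.O.subtype from rfl, show (GO.map P0.O.subtype).adjugate = GO.adjugate.map P0.O.subtype from
      (RingHom.map_adjugate P0.O.subtype GO).symm]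
    exact (GO.adjugate i j).2
  have hd : ∀ i, P0.1 (G.det * cl i) ≤ 1 := fun i => by
    have h' := congrFun hdc i
    rw [Pi.smul_apply, smul_eq_mul] at h'
    rw [h']
    refine P0.1.map_sum_le fun j _ => ?_
    rw [map_mul]; exact mul_le_one' (hadj i j) (key j l)
  have hcd : P.1 (c l * ((G.det : k⟮x⟯) : K)) ≤ 1 := by
    rw [← b.sum_repr (c l), Finset.sum_mul]
    refine P.1.map_sum_le fun i _ => ?_
    rw [show (b.repr (c l) i) • b i * ((G.det : k⟮x⟯) : K) = algebraMap k⟮x⟯ K (G.det * cl i) * b i by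
      rw [Algebra.smul_def, map_mul]; simp only [cl]; show _ * _ * ((algebraMap k⟮x⟯ K) G.det) = _; ring, map_mul, he0]
    exact mul_le_one' (pow_le_one' (hd i) _) (hb i P ⟨e0, he0⟩)
  have hcl : c l = u ^ m * vK.repr z l := by
    show vK.repr (z * algebraMap K K' (u ^ m)) l = _
    rw [mul_comm z, ← Algebra.smul_def, map_smul, Finsupp.smul_apply, smul_eq_mul]
  rw [hcl, map_mul, map_mul, map_pow, huP, one_pow, one_mul] at hcd
  exact hcd

end Groth.Agent.FFLib
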