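import Groth.Agent.FFLib.Diff.Basic
import Groth.Agent.FFLib.Diff.Geom
import Groth.Agent.FFLib.Res.Regular
import Groth.Agent.FFLib.Ext

/-! Riemann-Hurwitz through expansions. -/

set_option linter.style.haveILetI false

namespace Groth.Agent.FFLib

open FunFld WithZero

universe u v w

variable {k : Type u} {K : Type v} [Field k] [Field K] [Algebra k K]

/-- Coefficient fields of expansions are finite. -/
theorem coeffField_finite (hF : IsFF k K) {F : Type w} [Field F] [Algebra k F] {P : Place k K}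
    {φ : K →ₐ[k] LaurentSeries F} (hφ : LocRes.IsExpansionAt P.1 φ) : FiniteDimensional k F := by
  obtain ⟨a, ha⟩ := exists_resIndep hF P
  let G : (Fin P.deg → k) →ₗ[k] F := Fintype.linearCombination k (fun i => (φ (a i)).coeff 0)
  refine Module.Finite.of_surjective G fun f => ?_
  obtain ⟨z, hz, hzf⟩ := hφ.2.1 f
  have hli : LinearIndependent k (fun i => IsLocalRing.residue P.O ⟨a i, ha.1 i⟩) := by
    rw [Fintype.linearIndependent_iff]
    intro c hc
    refine congrFun (ha.2 c ?_)
    replace hc : IsLocalRing.residue P.O (∑ i, algebraMap k P.O (c i) * ⟨a i, ha.1 i⟩) = 0 := by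
      rw [map_sum]
      exact (Finset.sum_congr rfl fun i _ => (residue_smul P (c i) _).symm).trans hc
    rw [residue_eq_zero] at hc
    rw [AddSubmonoidClass.coe_finsetSum] at hc
    simpa only [MulMemClass.coe_mul, coe_algebraMap_O, Algebra.smul_def] using hc
  haveI := residue_finite hF P
  have hsp := hli.span_eq_top_of_card_eq_finrank' (by rw [Fintype.card_fin]; rfl)
  have hmem : IsLocalRing.residue P.O ⟨z, hz⟩ ∈ Submodule.span k (Set.range fun i => IsLocalRing.residue P.O ⟨a i, ha.1 i⟩) := by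
    rw [hsp]; trivial
  obtain ⟨c, hc⟩ := (Submodule.mem_span_range_iff_exists_fun k).mp hmem
  refine ⟨c, ?_⟩
  replace hc : IsLocalRing.residue P.O (∑ i, algebraMap k P.O (c i) * ⟨a i, ha.1 i⟩) =
      IsLocalRing.residue P.O ⟨z, hz⟩ := by
    rw [map_sum]
    exact (Finset.sum_congr rfl fun i _ => (residue_smul P (c i) _).symm).trans hc
  have h1 := (residue_eq_zero P (∑ i, algebraMap k P.O (c i) * ⟨a i, ha.1 i⟩ - ⟨z, hz⟩)).mp
    (by rw [map_sub, hc, sub_self])
  rw [AddSubgroupClass.coe_sub, AddSubmonoidClass.coe_finsetSum] at h1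
  simp only [MulMemClass.coe_mul, coe_algebraMap_O] at h1
  simp only [← Algebra.smul_def] at h1
  have h2 : (φ (∑ i, c i • a i - z)).coeff 0 = 0 := by
    rcases eq_or_ne (∑ i, c i • a i - z) 0 with e | e
    · rw [e, map_zero, HahnSeries.coeff_zero]
    · refine (low_map_iff hφ _ 1).mpr ?_ 0 one_pos
      rw [val_le_exp_iff P e]
      rw [val_lt_one_iff P e] at h1
      omega
  rw [map_sub, map_sum, HahnSeries.coeff_sub, HahnSeries.coeff_sum, sub_eq_zero, hzf] at h2
  rw [← h2, Fintype.linearCombination_apply]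
  exact Finset.sum_congr rfl fun i _ => by rw [map_smul_laurent, HahnSeries.coeff_smul]

variable {k' : Type u} {K' : Type v} [Field k'] [Field K'] [Algebra k' K'] [Algebra k k'] [Algebra k K']
  [IsScalarTower k k' K']

/-- A place over `k'` read over `k`. -/
def restrPlace (Q : Place k' K') : Place k K' :=
  ⟨Q.1, fun c => by rw [IsScalarTower.algebraMap_apply k k' K']; exact Q.2.1 _, Q.2.2⟩

theorem restrPlace_bijective [FiniteDimensional k k'] :
    Function.Bijective (restrPlace : Place k' K' → Place k K') := by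
  refine ⟨fun Q R h => Subtype.ext (congrArg (fun S : Place k K' => S.1) h), fun R => ?_⟩
  refine ⟨⟨R.1, fun c => ?_, R.2.2⟩, rfl⟩
  by_contra hlt
  rw [not_le] at hlt
  refine transcendental_of_val_ne_one R (x := algebraMap k' K' c) (fun e => ?_) hlt.ne' ?_
  · rw [e, map_zero] at hlt; exact not_lt_zero hlt
  · exact (IsIntegral.algebraMap (IsIntegral.of_finite k c)).isAlgebraic

omit [Algebra k' K'] [Field K'] [Algebra k K'] [IsScalarTower k k' K'] in
theorem finrank_comp {R : Type*} [CommRing R] [Algebra k' R] (A : Algebra k R)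
    (h : ∀ c, (algebraMap k R : k →+* R) c = algebraMap k' R (algebraMap k k' c)) :
    Module.finrank k k' * Module.finrank k' R = Module.finrank k R :=
  haveI : IsScalarTower k k' R := IsScalarTower.of_algebraMap_eq h
  Module.finrank_mul_finrank k k' R

theorem deg_restrPlace (Q : Place k' K') :
    (restrPlace (k := k) Q).deg = Module.finrank k k' * Q.deg :=
  (finrank_comp (k' := k') (R := Res Q) (Place.algRes (restrPlace (k := k) Q)) fun c =>
    congrArg (IsLocalRing.residue Q.O) (Subtype.ext (IsScalarTower.algebraMap_apply k k' K' c))).symm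

variable [Algebra K K'] [IsScalarTower k K K'] [FiniteDimensional K K'] [FiniteDimensional k k']
  [Algebra.IsSeparable K K']

theorem riemann_hurwitz (hK : IsFunctionField k K) (hg : IsGeometric k K) (hK' : IsFunctionField k' K')
    (F : Place k K → Type w) [∀ P, Field (F P)] [∀ P, Algebra k (F P)]
    (φ : ∀ P, K →ₐ[k] LaurentSeries (F P)) (hφ : ∀ P, LocRes.IsExpansionAt P.1 (φ P))
    (F' : Place k' K' → Type w) [∀ Q, Field (F' Q)] [∀ Q, Algebra k' (F' Q)]
    (ψ : ∀ Q, K' →ₐ[k'] LaurentSeries (F' Q)) (hψ : ∀ Q, LocRes.IsExpansionAt Q.1 (ψ Q))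
    (below : Place k' K' → Place k K) (e : Place k' K' → ℕ)
    (he : ∀ Q (z : K), Q.1 (algebraMap K K' z) = (below Q).1 z ^ e Q)
    (x : K) (hx : ∀ P, LocRes.vDiff (φ P) 1 x ≠ 0)
    (hx' : ∀ Q, LocRes.vDiff (ψ Q) 1 (algebraMap K K' x) ≠ 0) :
    (Function.support fun Q => LocRes.diffExp (φ (below Q)) (ψ Q) (e Q) x).Finite ∧
    (Module.finrank k k' : ℤ) * (2 * (genus k' K' : ℤ) - 2) =
      (Module.finrank K K' : ℤ) * (2 * (genus k K : ℤ) - 2) +
      (Module.finrank k k' : ℤ) * ∑ᶠ Q, LocRes.diffExp (φ (below Q)) (ψ Q) (e Q) x * (Q.deg : ℤ) := by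
  classical
  haveI := fun P => coeffField_finite hK.1 (hφ P)
  haveI := fun Q => coeffField_finite hK'.1 (hψ Q)
  obtain ⟨P₀⟩ := exists_place hK.1
  obtain ⟨Q₀⟩ := exists_place hK'.1
  have hg' := isGeometric_ext hK hg hK'
  obtain ⟨C, hC, hC', -⟩ := exists_canonical_of_D_ne hK hg F φ hφ (D_ne_of_vDiff (hx P₀))
  obtain ⟨C', hD, hD', -⟩ := exists_canonical_of_D_ne hK' hg' F' ψ hψ (D_ne_of_vDiff (hx' Q₀))
  let ρ : Place k' K' ≃ Place k K' := Equiv.ofBijective _ restrPlace_bijective
  set G : Divisor k' K' := Finsupp.equivMapDomain ρ.symm (conorm K' C) with hG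
  have hGQ : ∀ Q, G Q = (e Q : ℤ) * C (below Q) := fun Q => by
    rw [hG, Finsupp.equivMapDomain_apply, Equiv.symm_symm]
    exact conorm_apply hK.1 C (Q := restrPlace Q) (P := below Q) (he Q)
  have hexp : (fun Q => LocRes.diffExp (φ (below Q)) (ψ Q) (e Q) x) = ⇑(C' - G) := funext fun Q => by
    rw [Finsupp.sub_apply, hGQ, hC', hD']
    rfl
  have hdeg : (Module.finrank k k' : ℤ) * G.deg = (conorm K' C).deg := by
    rw [hG, Divisor.deg, Divisor.deg, Finsupp.sum_equivMapDomain, Finsupp.mul_sum]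
    refine Finset.sum_congr rfl fun Q _ => ?_
    have := deg_restrPlace (k := k) (ρ.symm Q)
    rw [show restrPlace (ρ.symm Q) = Q from ρ.apply_symm_apply Q] at this
    simp only []
    rw [this]
    push_cast
    ring
  rw [deg_conorm hK.1, deg_canonical hK hC] at hdeg
  refine ⟨?_, ?_⟩
  · rw [hexp]
    exact (C' - G).hasFiniteSupport
  · have hsum : ∑ᶠ Q, LocRes.diffExp (φ (below Q)) (ψ Q) (e Q) x * (Q.deg : ℤ) = (C' - G).deg := by
      rw [Divisor.deg, Finsupp.sum, ← finsum_eq_sum_of_support_subset]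
      · exact finsum_congr fun Q => by rw [← hexp]
      · intro Q hQ
        exact Finsupp.mem_support_iff.mpr fun h => hQ (by simp only [h, zero_mul])
    rw [hsum, Divisor.deg_sub, deg_canonical hK' hD, ← hdeg]
    ring

end Groth.Agent.FFLib
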