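import Groth.Agent.FFLib.Diff.Basic
import Groth.Agent.FFLib.Diff.RH
import Groth.Agent.FFLib.Trace.Local
import Mathlib.RingTheory.DedekindDomain.Different

/-! The different exponent through the trace dual, and the conductor of a power basis. -/

set_option linter.style.haveILetI false

namespace Groth.Agent.FFLib

open FunFld WithZero Polynomial

universe u v w

variable {k : Type u} {K K' : Type v} [Field k] [Field K] [Field K'] [Algebra k K] [Algebra K K']
  [Algebra k K'] [IsScalarTower k K K']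

/-- `y` lies in the trace dual of the semilocal ring above `P`. -/
def IsDual (P : Place k K) (y : K') : Prop :=
  ∀ z : K', (∀ Q : Place k K', IsOver Q P → Q.1 z ≤ 1) → P.1 (Algebra.trace K K' (y * z)) ≤ 1

/-- The residue field does not grow at `Q`. -/
def IsResTrivial (P : Place k K) (Q : Place k K') : Prop :=
  ∀ z : K', Q.1 z ≤ 1 → ∃ c : K, P.1 c ≤ 1 ∧ Q.1 (z - algebraMap K K' c) < 1

variable {P : Place k K} {Q : Place k K'} {e : ℕ}

section Sep

variable {F F' : Type w} [Field F] [Algebra k F] [Field F'] [Algebra k F']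
  {φ : K →ₐ[k] LaurentSeries F} (hφ : LocRes.IsExpansionAt P.1 φ)
  {ψ : K' →ₐ[k] LaurentSeries F'} (hψ : LocRes.IsExpansionAt Q.1 ψ)

omit [Field K'] [Algebra K K'] [Algebra k K'] [IsScalarTower k K K'] in
include hφ in
theorem coeff_zero_aeval {z : K} (hz : P.1 z ≤ 1) (p : k[X]) :
    P.1 (aeval z p) ≤ 1 ∧ (φ (aeval z p)).coeff 0 = aeval ((φ z).coeff 0) p := by
  induction p using Polynomial.induction_on with
  | C c =>
    refine ⟨by rw [aeval_C]; exact P.2.1 c, ?_⟩
    rw [aeval_C, aeval_C, LocRes.map_algebraMap, HahnSeries.C_apply, HahnSeries.coeff_single_same]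
  | add p q hp hq =>
    refine ⟨by rw [map_add]; exact (P.1.map_add _ _).trans (max_le hp.1 hq.1), ?_⟩
    rw [map_add, map_add, HahnSeries.coeff_add, hp.2, hq.2, map_add]
  | monomial n c ih =>
    have e : (C c * X ^ (n + 1) : k[X]) = C c * X ^ n * X := by rw [pow_succ, mul_assoc]
    rw [e, map_mul (aeval z), aeval_X, map_mul (aeval ((φ z).coeff 0)), aeval_X]
    refine ⟨by rw [map_mul]; exact mul_le_one' ih.1 hz, ?_⟩
    rw [map_mul, ← ih.2]
    have := coeff_mul_low ((low_map_zero_iff hφ _).mpr ih.1) ((low_map_zero_iff hφ _).mpr hz)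
    simpa using this

include hφ hψ in
theorem coeffField_separable_above [FiniteDimensional k F] [Algebra.IsSeparable k F]
    (he : IsOverWith Q P e) (he1 : 1 ≤ e) (hf : IsResTrivial P Q) : Algebra.IsSeparable k F' := by
  refine ⟨fun a' => ?_⟩
  obtain ⟨w, hw, rfl⟩ := hψ.2.1 a'
  obtain ⟨c, hc, hcw⟩ := hf w hw
  have hc' : Q.1 (algebraMap K K' c) ≤ 1 := by rw [he]; exact pow_le_one' hc e
  have heq : (ψ w).coeff 0 = (ψ (algebraMap K K' c)).coeff 0 := by
    rw [← sub_eq_zero, ← HahnSeries.coeff_sub, ← map_sub]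
    rcases eq_or_ne (w - algebraMap K K' c) 0 with h | h
    · rw [h, map_zero, HahnSeries.coeff_zero]
    · refine (low_map_iff hψ _ 1).mpr ?_ 0 one_pos
      rw [val_lt_one_iff Q h] at hcw
      rw [val_le_exp_iff Q h]; omega
  rw [heq]
  set p := minpoly k ((φ c).coeff 0)
  have hsep : p.Separable := Algebra.IsSeparable.isSeparable k _
  obtain ⟨h1, h2⟩ := coeff_zero_aeval hφ hc p
  rw [minpoly.aeval] at h2
  have hz : aeval ((ψ (algebraMap K K' c)).coeff 0) p = 0 := by
    rw [← (coeff_zero_aeval hψ hc' p).2, aeval_algebraMap_apply]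
    rcases eq_or_ne (aeval c p) 0 with h | h
    · rw [h, map_zero, map_zero, HahnSeries.coeff_zero]
    · refine (low_map_iff hψ _ 1).mpr ?_ 0 one_pos
      have h1' : Low (φ (aeval c p)) 1 := fun i hi => by
        rcases eq_or_lt_of_le (Int.lt_add_one_iff.mp (by omega : i < (0 : ℤ) + 1)) with rfl | hlt
        · exact h2
        · exact (low_map_zero_iff hφ _).mpr h1 i hlt
      rw [low_map_iff hφ, val_le_exp_iff P h] at h1'
      rw [val_le_exp_iff Q (_root_.map_ne_zero _ |>.mpr h), ord_over he]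
      have : (1 : ℤ) ≤ (e : ℤ) * P.ord (aeval c p) := one_le_mul_of_one_le_of_one_le (by omega) (by omega)
      omega
  exact hsep.of_dvd (minpoly.dvd k _ hz)

variable [FiniteDimensional K K'] [Algebra.IsSeparable K K']
  (hK : IsFunctionField k K) (hg : IsGeometric k K) (he : IsOverWith Q P e)
  {x : K} (hx : LocRes.vDiff φ 1 x ≠ 0) (hx' : LocRes.vDiff ψ 1 (algebraMap K K' x) ≠ 0)
  (hf : IsResTrivial P Q)
include hφ hψ hK hg he hx hx' hf

/-- The dual is bounded by the different exponent. -/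
theorem dual_le {y : K'} (hy : IsDual P y) : Q.1 y ≤ exp (LocRes.diffExp φ ψ e x) := by
  classical
  rcases eq_or_ne y 0 with rfl | hy0
  · simp
  obtain ⟨t, ht⟩ := hφ.2.2
  obtain ⟨hd, hd0⟩ := diffExp_eq_unif (k' := k) he hφ hψ hK hg hx hx' ht
  haveI := coeffField_finite hK.1 hφ
  haveI := coeffField_finite (IsFF.ext (K' := K') hK.1) hψ
  haveI := coeffField_separable hφ hK hg (D_ne_of_vDiff (φ := φ) (x := x) hx)
  haveI := coeffField_separable_above hφ hψ he (over_pos hK.1 he) hf
  by_contra hlt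
  rw [val_le_exp_iff Q hy0, not_le, hd] at hlt
  set τ := algebraMap K K' t
  have hdψ : dExp ψ τ ≠ 0 := fun h => hd0 (by rw [vDiff_one]; exact (Valuation.zero_iff _).mpr h)
  obtain ⟨a, ha, hne⟩ := exists_locRes_ne_of_sep hψ hdψ hy0
  have hord : LocRes.ordDiff ψ y τ = Q.ord y + LocRes.ordDiff ψ 1 τ := by
    unfold LocRes.ordDiff
    rw [show LocRes.vDiff ψ y τ = Q.1 y * LocRes.vDiff ψ 1 τ from by
      rw [vDiff_one, LocRes.vDiff, map_mul, hψ.1], log_mul (val_ne_zero Q hy0) hd0, val_eq_exp Q hy0, log_exp]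
    ring
  have ha1 : Q.1 a ≤ 1 := ha.trans (by rw [← exp_zero, exp_le_exp, hord]; omega)
  set Qs := (over_finite (K' := K') hK.1 P).toFinset
  have hQs : ∀ R, R ∈ Qs ↔ IsOver R P := fun R => Set.Finite.mem_toFinset _
  have hQ : Q ∈ Qs := (hQs Q).mpr ⟨e, he⟩
  let mf : Place k K' → ℤ := fun R => if R = Q then max 0 (-LocRes.ordDiff ψ y τ) else max 0 (-R.ord y)
  obtain ⟨z, hz⟩ := exists_approx Qs (fun R => if R = Q then a else 0) mf
  have hzQ : Q.1 (z - a) ≤ exp (LocRes.ordDiff ψ y τ) := by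
    have := hz Q hQ
    simp only [mf, ↓reduceIte] at this
    exact this.trans (exp_le_exp.mpr (by omega))
  have hzR : ∀ R : Place k K', IsOver R P → R.1 z ≤ 1 ∧ (R ≠ Q → R.1 (y * z) ≤ 1) := fun R hR => by
    have h := hz R ((hQs R).mpr hR)
    by_cases hRQ : R = Q
    · subst hRQ
      simp only [mf, ↓reduceIte] at h
      refine ⟨?_, fun h' => absurd rfl h'⟩
      have h' : R.1 (z - a) ≤ 1 := h.trans (by rw [← exp_zero, exp_le_exp]; omega)
      have := R.1.map_add (z - a) a
      rw [sub_add_cancel] at this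
      exact this.trans (max_le h' ha1)
    · simp only [mf, if_neg hRQ, sub_zero] at h
      refine ⟨h.trans (by rw [← exp_zero, exp_le_exp]; omega), fun _ => ?_⟩
      rw [map_mul, val_eq_exp R hy0]
      refine (mul_le_mul' le_rfl h).trans ?_
      rw [← exp_add, ← exp_zero, exp_le_exp]; omega
  have hτ : ∀ R : Place k K', IsOver R P → R.1 τ ≤ 1 := by
    rintro R ⟨e', he'⟩
    rw [he', ht]
    exact pow_le_one' (by rw [← exp_zero, exp_le_exp]; omega) e'
  have htr := trace_formula hK.1 P Qs hQs (y * z) t (locResL φ t).toAddMonoidHom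
    (fun c => tres_expansion hφ c t) (fun R => if R = Q then LocRes.locRes ψ (y * z) τ else 0) (fun R hR => by
      by_cases hRQ : R = Q
      · subst hRQ
        simp only [↓reduceIte]
        exact tres_expansion hψ _ _
      · simp only [if_neg hRQ]
        refine (tres_ball (IsFF.ext (K' := K') hK.1) R _ _).2 0 ?_ ?_
        · simpa using hτ R ((hQs R).mp hR)
        · simpa using (hzR R ((hQs R).mp hR)).2 hRQ)
  rw [Finset.sum_ite_eq', if_pos hQ] at htr
  have h0 : (locResL φ t).toAddMonoidHom (Algebra.trace K K' (y * z)) = 0 := by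
    show LocRes.locRes φ (Algebra.trace K K' (y * z)) t = 0
    rw [LocRes.locRes, resExp_eq_zero hφ (hy z fun R hR => (hzR R hR).1)
      (by rw [ht, ← exp_zero, exp_le_exp]; omega), map_zero]
  rw [h0] at htr
  refine hne ?_
  have h1 : LocRes.locRes ψ ((z - a) * y) τ = 0 := locRes_eq_zero_of_le hψ hzQ
  have h2 : locResL ψ τ ((z - a) * y) = locResL ψ τ (z * y) - locResL ψ τ (a * y) := by
    rw [sub_mul, map_sub]
  have h3 : locResL ψ τ (z * y) = 0 := by
    show LocRes.locRes ψ (z * y) τ = 0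
    rw [mul_comm, ← htr]
  rw [h3, zero_sub, show locResL ψ τ ((z - a) * y) = LocRes.locRes ψ ((z - a) * y) τ from rfl, h1] at h2
  exact neg_eq_zero.mp h2.symm

/-- The bound is attained. -/
theorem exists_dual : ∃ y : K', IsDual P y ∧ Q.1 y = exp (LocRes.diffExp φ ψ e x) := by
  classical
  obtain ⟨t, ht⟩ := hφ.2.2
  obtain ⟨hd, hd0⟩ := diffExp_eq_unif (k' := k) he hφ hψ hK hg hx hx' ht
  haveI := coeffField_finite hK.1 hφ
  haveI := coeffField_finite (IsFF.ext (K' := K') hK.1) hψ
  haveI := coeffField_separable hφ hK hg (D_ne_of_vDiff (φ := φ) (x := x) hx)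
  rw [hd]
  set τ := algebraMap K K' t
  set d := LocRes.ordDiff ψ 1 τ
  obtain ⟨a, ha0, ha⟩ := exists_val_eq_exp Q d
  set Qs := (over_finite (K' := K') hK.1 P).toFinset
  have hQs : ∀ R, R ∈ Qs ↔ IsOver R P := fun R => Set.Finite.mem_toFinset _
  have hQ : Q ∈ Qs := (hQs Q).mpr ⟨e, he⟩
  obtain ⟨y, hy⟩ := exists_approx Qs (fun R => if R = Q then a else 0) (fun R => if R = Q then 1 - d else 0)
  have hyQ : Q.1 y = exp d := by
    have h := hy Q hQ
    simp only [↓reduceIte] at h
    rw [← ha]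
    refine Valuation.map_eq_of_sub_lt _ (h.trans_lt ?_)
    rw [ha, exp_lt_exp]; omega
  have hy0 : y ≠ 0 := fun h => exp_ne_zero (by rw [← hyQ, h, map_zero])
  have hτ : ∀ R : Place k K', IsOver R P → R.1 τ ≤ 1 := by
    rintro R ⟨e', he'⟩
    rw [he', ht]
    exact pow_le_one' (by rw [← exp_zero, exp_le_exp]; omega) e'
  refine ⟨y, fun z hz => ?_, hyQ⟩
  set w := Algebra.trace K K' (y * z) with hw
  by_contra hlt
  have hw0 : w ≠ 0 := fun h => hlt (by rw [h, map_zero]; exact zero_le)
  rw [val_le_one_iff P hw0, not_le] at hlt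
  have hdφ : dExp φ t ≠ 0 := fun h => (coeff_dExp_unif hφ ht).2 (by rw [h, HahnSeries.coeff_zero])
  obtain ⟨c, hc, hne⟩ := exists_locRes_ne_of_sep hφ hdφ hw0
  have hord : LocRes.ordDiff φ w t = P.ord w := by
    unfold LocRes.ordDiff
    rw [show LocRes.vDiff φ w t = P.1 w * LocRes.vDiff φ 1 t from by
      rw [vDiff_one, LocRes.vDiff, map_mul, hφ.1], vDiff_unif hφ ht, mul_one, val_eq_exp P hw0, log_exp]
    ring
  have hc1 : P.1 c ≤ 1 := hc.trans (by rw [← exp_zero, exp_le_exp, hord]; omega)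
  have hzc : ∀ R : Place k K', IsOver R P → R.1 (z * algebraMap K K' c) ≤ 1 := by
    rintro R ⟨e', he'⟩
    rw [map_mul, he']
    exact mul_le_one' (hz R ⟨e', he'⟩) (pow_le_one' hc1 e')
  have htr := trace_formula hK.1 P Qs hQs (y * (z * algebraMap K K' c)) t (locResL φ t).toAddMonoidHom
    (fun c => tres_expansion hφ c t) (fun R => 0) (fun R hR => by
      by_cases hRQ : R = Q
      · subst hRQ
        have h := tres_expansion hψ (y * (z * algebraMap K K' c)) τ
        rwa [show LocRes.locRes ψ (y * (z * algebraMap K K' c)) τ = 0 from by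
          rw [mul_comm]
          refine locRes_eq_zero_of_le hψ ((hzc R ⟨e, he⟩).trans ?_)
          rw [← exp_zero, exp_le_exp]
          unfold LocRes.ordDiff
          rw [show LocRes.vDiff ψ y τ = R.1 y * LocRes.vDiff ψ 1 τ from by
            rw [vDiff_one, LocRes.vDiff, map_mul, hψ.1], log_mul (val_ne_zero R hy0) hd0, hyQ, log_exp]
          simp only [d, LocRes.ordDiff]
          omega] at h
      · refine (tres_ball (IsFF.ext (K' := K') hK.1) R _ _).2 0 ?_ ?_
        · simpa using hτ R ((hQs R).mp hR)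
        · have h := hy R hR
          simp only [if_neg hRQ, sub_zero, neg_zero, exp_zero] at h
          simpa using mul_le_one' h (hzc R ((hQs R).mp hR)))
  rw [Finset.sum_const_zero] at htr
  refine hne (Eq.trans ?_ htr)
  show LocRes.locRes φ (c * w) t = LocRes.locRes φ (Algebra.trace K K' (y * (z * algebraMap K K' c))) t
  rw [hw, ← smul_eq_mul, ← map_smul, Algebra.smul_def]
  congr 2
  ring

/-- The bound on the different exponent from a power basis, and the equality case. -/
theorem diffExp_le_deriv {y : K'} (hgen : Algebra.adjoin K {y} = ⊤)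
    (hy : ∀ R : Place k K', IsOver R P → R.1 y ≤ 1) :
    LocRes.diffExp φ ψ e x ≤ Q.ord (aeval y (derivative (minpoly K y))) ∧
      (Q.ord (aeval y (derivative (minpoly K y))) = LocRes.diffExp φ ψ e x →
        ∃ h : K', Q.1 h = 1 ∧ ∀ z : K', (∀ R : Place k K', IsOver R P → R.1 z ≤ 1) →
          ∃ p : Polynomial P.O, p.eval₂ ((algebraMap K K').comp P.O.subtype) y = z * h) := by
  classical
  letI : Algebra P.O K' := ((algebraMap K K').comp P.O.subtype).toAlgebra
  haveI : IsScalarTower P.O K K' := IsScalarTower.of_algebraMap_eq fun _ => rfl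
  obtain ⟨p, hp, hpy⟩ := exists_monic_of_le_one hK.1 P hy
  have hint : IsIntegral P.O y := ⟨p, hp, hpy⟩
  obtain ⟨y₀, hy₀, hy₀v⟩ := exists_dual hφ hψ hK hg he hx hx' hf
  set g' := aeval y (derivative (minpoly K y)) with hg'
  have hg0 : g' ≠ 0 := (Algebra.IsSeparable.isSeparable K y).aeval_derivative_ne_zero (minpoly.aeval _ _)
  have hA : ∀ z ∈ Algebra.adjoin P.O {y}, ∀ R : Place k K', IsOver R P → R.1 z ≤ 1 := by
    intro z hz R hR
    obtain ⟨e', he'⟩ := id hR
    induction hz using Algebra.adjoin_induction with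
    | mem a ha => rw [Set.mem_singleton_iff.mp ha]; exact hy R hR
    | algebraMap c =>
      show R.1 (algebraMap K K' c.1) ≤ 1
      rw [he']
      exact pow_le_one' c.2 e'
    | add a b _ _ ha hb => exact (R.1.map_add _ _).trans (max_le ha hb)
    | mul a b _ _ ha hb => rw [map_mul]; exact mul_le_one' ha hb
  have hdual : ∀ u : K', IsDual P u → u ∈ (Algebra.traceForm K K').dualSubmodule
      (Subalgebra.toSubmodule (Algebra.adjoin P.O {y})) := fun u hu z hz => by
    rw [Submodule.mem_one]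
    exact ⟨⟨_, hu z (hA z hz)⟩, rfl⟩
  have hmul : ∀ u : K', IsDual P u → g' * u ∈ Algebra.adjoin P.O {y} := fun u hu => by
    have := hdual u hu
    rw [traceForm_dualSubmodule_adjoin P.O K hgen hint, ← hg'] at this
    obtain ⟨a, ha, hau⟩ := this
    rw [← hau]
    show g' * (g'⁻¹ • a) ∈ _
    rw [smul_eq_mul, mul_inv_cancel_left₀ hg0]
    exact ha
  have hw := hA _ (hmul y₀ hy₀) Q ⟨e, he⟩
  rw [map_mul, hy₀v, val_eq_exp Q hg0, ← exp_add, ← exp_zero, exp_le_exp] at hw
  refine ⟨by omega, fun heq => ⟨g' * y₀, ?_, fun z hz => ?_⟩⟩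
  · rw [map_mul, hy₀v, val_eq_exp Q hg0, ← exp_add, heq, neg_add_cancel, exp_zero]
  · have hzy : IsDual P (z * y₀) := fun w hw => by
      rw [show z * y₀ * w = y₀ * (z * w) by ring]
      exact hy₀ _ fun R hR => by rw [map_mul]; exact mul_le_one' (hz R hR) (hw R hR)
    have hm := hmul _ hzy
    rw [Algebra.adjoin_singleton_eq_range_aeval] at hm
    obtain ⟨q, hq⟩ := hm
    exact ⟨q, (hq : aeval y q = _).trans (by ring)⟩

end Sep

end Groth.Agent.FFLib
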