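import Groth.Agent.FFLib.Diff.Nonsing
import Groth.Agent.FFLib.Diff.ScalarExt

/-! Nonsingularity in towers of constant extensions. -/

set_option linter.unusedSectionVars false
set_option linter.style.haveILetI false

namespace Groth.Agent.FFLib

open FunFld WithZero
open scoped TensorProduct

universe u v

variable {k k' k'' : Type u} {K K' K'' : Type v} [Field k] [Field k'] [Field k''] [Field K] [Field K'] [Field K'']
  [Algebra k k'] [Algebra k' k''] [Algebra k k''] [IsScalarTower k k' k'']
  [FiniteDimensional k k'] [FiniteDimensional k' k'']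
  [Algebra k K] [Algebra K K'] [Algebra k' K'] [Algebra k K'] [IsScalarTower k k' K'] [IsScalarTower k K K']
  [Algebra K' K''] [Algebra k'' K''] [Algebra k' K''] [Algebra k K''] [Algebra K K'']
  [IsScalarTower k' k'' K''] [IsScalarTower k' K' K''] [IsScalarTower K K' K''] [IsScalarTower k K K'']

theorem nonsingular_tower_iff (h1 : Function.Bijective (Algebra.TensorProduct.productMap
      (IsScalarTower.toAlgHom k k' K') (IsScalarTower.toAlgHom k K K')))
    (h2 : Function.Bijective (Algebra.TensorProduct.productMap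
      (IsScalarTower.toAlgHom k' k'' K'') (IsScalarTower.toAlgHom k' K' K'')))
    (hF : IsFF k K) (P : Place k K) :
    (integralClosure (P.O.toSubring.map (algebraMap K K'')) K'' =
        Algebra.adjoin (P.O.toSubring.map (algebraMap K K'')) (Set.range (algebraMap k'' K''))) ↔
      (integralClosure (P.O.toSubring.map (algebraMap K K')) K' =
          Algebra.adjoin (P.O.toSubring.map (algebraMap K K')) (Set.range (algebraMap k' K')) ∧
        ∀ Q : Place k K', IsOver Q P →
          integralClosure (Q.O.toSubring.map (algebraMap K' K'')) K'' =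
            Algebra.adjoin (Q.O.toSubring.map (algebraMap K' K'')) (Set.range (algebraMap k'' K''))) := by
  classical
  haveI : IsScalarTower k K' K'' := IsScalarTower.of_algebraMap_eq fun c => by
    rw [IsScalarTower.algebraMap_apply k K K'', IsScalarTower.algebraMap_apply K K' K'',
      ← IsScalarTower.algebraMap_apply k K K']
  haveI : IsScalarTower k k' K'' := IsScalarTower.of_algebraMap_eq fun c => by
    rw [IsScalarTower.algebraMap_apply k' K' K'', ← IsScalarTower.algebraMap_apply k k' K',
      ← IsScalarTower.algebraMap_apply k K' K'']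
  haveI : IsScalarTower k k'' K'' := IsScalarTower.of_algebraMap_eq fun c => by
    rw [IsScalarTower.algebraMap_apply k k' k'', ← IsScalarTower.algebraMap_apply k' k'' K'',
      ← IsScalarTower.algebraMap_apply k k' K'']
  haveI : FiniteDimensional k k'' := FiniteDimensional.trans k k' k''
  let v := Module.finBasis k k'
  let w := Module.finBasis k' k''
  obtain ⟨vK, hvK⟩ := exists_const_basis (K := K) h1 v
  obtain ⟨wK, hwK⟩ := exists_const_basis (k := k') (K := K') h2 w
  haveI : FiniteDimensional K K' := Module.Finite.of_basis vK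
  haveI : FiniteDimensional K' K'' := Module.Finite.of_basis wK
  haveI : FiniteDimensional K K'' := FiniteDimensional.trans K K' K''
  let u := (v.smulTower w).reindex finProdFinEquiv
  let uK := (vK.smulTower wK).reindex finProdFinEquiv
  have huK : ∀ l, uK l = algebraMap k'' K'' (u l) := fun l => by
    simp only [uK, u, Module.Basis.reindex_apply, Module.Basis.smulTower_apply, Algebra.smul_def, hvK, hwK,
      map_mul, ← IsScalarTower.algebraMap_apply k' K' K'', ← IsScalarTower.algebraMap_apply k' k'' K'']
  have hcoord : ∀ (z : K'') l m, uK.repr z (finProdFinEquiv (l, m)) = vK.repr (wK.repr z m) l := fun z l m => by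
    simp [uK]
  have hall : ∀ z : K'', (∀ i, P.1 (uK.repr z i) ≤ 1) ↔ ∀ m l, P.1 (vK.repr (wK.repr z m) l) ≤ 1 := fun z =>
    ⟨fun h m l => hcoord z l m ▸ h _, fun h i => by
      obtain ⟨⟨l, m⟩, rfl⟩ := finProdFinEquiv.surjective i
      rw [hcoord]; exact h m l⟩
  have hF' : IsFF k K' := IsFF.ext (K' := K') hF
  have hF'' : IsFF k' K' := isFF_scalar_ext hF
  let toK' : Place k K' → Place k' K' := fun Q => ⟨Q.1, fun c => const_val_le_one Q c, Q.2.2⟩
  have hQiff : ∀ Q : Place k K', (integralClosure (Q.O.toSubring.map (algebraMap K' K'')) K'' =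
      Algebra.adjoin (Q.O.toSubring.map (algebraMap K' K'')) (Set.range (algebraMap k'' K''))) ↔
      ∀ z : K'', (∀ R : Place k K'', IsOver R Q → R.1 z ≤ 1) → ∀ m, Q.1 (wK.repr z m) ≤ 1 := fun Q =>
    (closure_eq_iff hF'' w wK hwK (toK' Q)).trans
      ⟨fun h z hz => h z fun R hR => hz ⟨R.1, fun c => by
          rw [IsScalarTower.algebraMap_apply k k' K'']; exact R.2.1 _, R.2.2⟩ hR,
        fun h z hz => h z fun R hR => hz ⟨R.1, fun c => by
          rw [IsScalarTower.algebraMap_apply k' K' K'']
          obtain ⟨e, he⟩ := hR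
          rw [he]; exact pow_le_one' (const_val_le_one Q c) e, R.2.2⟩ hR⟩
  have hup : ∀ R : Place k K'', IsOver R P → ∃ Q : Place k K', IsOver Q P ∧ IsOver R Q := fun R hR => by
    obtain ⟨Q, e, -, he⟩ := exists_over (K' := K'') hF' R
    obtain ⟨P', e', -, he'⟩ := exists_over (K' := K') hF Q
    obtain ⟨eR, heR⟩ := hR
    have h1 : IsOverWith R P' (e' * e) := fun x => by
      rw [IsScalarTower.algebraMap_apply K K' K'', he, he', ← pow_mul]
    exact ⟨Q, (over_unique hF h1 heR).1 ▸ ⟨e', he'⟩, e, he⟩
  have hcomp : ∀ (R : Place k K'') (Q : Place k K'), IsOver Q P → IsOver R Q → IsOver R P := by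
    rintro R Q ⟨e', he'⟩ ⟨e, he⟩
    exact ⟨e' * e, fun x => by rw [IsScalarTower.algebraMap_apply K K' K'', he, he', ← pow_mul]⟩
  rw [closure_eq_iff hF u uK huK P, closure_eq_iff hF v vK hvK P]
  simp only [hall, hQiff]
  constructor
  · intro h
    refine ⟨fun z hz l => ?_, fun Q hQ z hz m => ?_⟩
    · rcases isEmpty_or_nonempty (Fin (Module.finrank k' k'')) with he | ⟨⟨m0⟩⟩
      · exact absurd (Module.finrank_pos (R := k') (M := k'')) (by
          intro hp; exact he.elim ⟨0, hp⟩)
      have h' := h (z • wK m0) (fun R hR => by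
        obtain ⟨Q, hQ, e, he⟩ := hup R hR
        rw [Algebra.smul_def, map_mul, he, hwK]
        exact mul_le_one' (pow_le_one' (hz Q hQ) e) (const_val_le_one R _)) m0 l
      simpa using h'
    · set Qs := (over_finite (K' := K') hF P).toFinset
      obtain ⟨a, ha⟩ := exists_approx Qs (fun S => if S = Q then 1 else 0) (fun _ => 1)
      have haQ : Q.1 a = 1 := by
        have h' := (le_exp_neg_one_iff Q).mp (ha Q ((Set.Finite.mem_toFinset _).mpr hQ))
        rw [if_pos rfl] at h'
        rw [← sub_add_cancel a 1, Valuation.map_add_eq_of_lt_right _ (by rwa [map_one]), map_one]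
      set TT := (over_finite (K' := K'') hF P).toFinset
      set N := TT.sup fun R => (-R.ord z).toNat
      have h' := h (a ^ N • z) (fun R hR => by
        obtain ⟨S, hS, e, he⟩ := hup R hR
        rw [Algebra.smul_def, map_mul, map_pow, map_pow, he]
        by_cases hSQ : S = Q
        · rw [hSQ, haQ, one_pow, one_pow, one_mul]; exact hz R ⟨e, hSQ ▸ he⟩
        rcases eq_or_ne z 0 with e0 | e0
        · simp [e0]
        have haS : S.1 a ≤ exp (-1 : ℤ) := by
          have h' := ha S ((Set.Finite.mem_toFinset _).mpr hS)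
          rwa [if_neg hSQ, sub_zero] at h'
        refine (mul_le_mul' (pow_le_pow_left' (pow_le_pow_left' haS e) N) (le_of_eq (val_eq_exp R e0))).trans ?_
        rw [← exp_nsmul, ← exp_nsmul, ← exp_add, ← exp_zero, exp_le_exp, nsmul_eq_mul, nsmul_eq_mul]
        have he1 : 1 ≤ e := over_pos hF' he
        have h1 : (-R.ord z).toNat ≤ N := Finset.le_sup (f := fun R : Place k K'' => (-R.ord z).toNat)
          (show R ∈ TT from (Set.Finite.mem_toFinset _).mpr hR)
        have h2 : (N : ℤ) * 1 ≤ (N : ℤ) * e := mul_le_mul_of_nonneg_left (by exact_mod_cast he1) (by positivity)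
        have h3 := Int.self_le_toNat (-(R.ord z))
        have h4 : (((-(R.ord z)).toNat : ℕ) : ℤ) ≤ (N : ℤ) := by exact_mod_cast h1
        linarith) m
      simp only [map_smul, Finsupp.smul_apply, smul_eq_mul] at h'
      have h'' : Q.1 (a ^ N * wK.repr z m) ≤ 1 := by
        obtain ⟨e, he⟩ := hQ
        rw [← vK.sum_repr (a ^ N * wK.repr z m)]
        refine Q.1.map_sum_le fun l _ => ?_
        rw [Algebra.smul_def, map_mul, he, hvK]
        exact mul_le_one' (pow_le_one' (h' l) e) (const_val_le_one Q _)
      rwa [map_mul, map_pow, haQ, one_pow, one_mul] at h''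
  · rintro ⟨hk', hQ⟩ z hz m l
    exact hk' _ (fun Q hQP => hQ Q hQP z (fun R hR => hz R (hcomp R Q hQP hR)) m) l

end Groth.Agent.FFLib
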